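/-
Isomorphism-invariant p-group functors and sections.

Main results (namespace `Cfsg.Agent.FunctorControl`): `IsSec` and its API, `isConjugacyFunctor_induced`,
`map_inducedFunctor`, transport of control along injective homomorphisms and isomorphisms,
`map_normalizer_of_coprime`, `map_inducedFunctor_of_coprime`.
-/
import Cfsg.Agent.Lib.AlperinFamily.Control
import Cfsg.Agent.Lib.Involves.Basic
import Cfsg.Agent.Lib.Cores.Basic

set_option autoImplicit false
open Cfsg
open scoped commutatorElement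

namespace Cfsg.Agent.FunctorControl

universe u

/-! ### Sections -/

/-- `X` is a quotient of a subgroup of `G`. -/
def IsSec (G : Type u) [Group G] (X : Type u) [Group X] : Prop :=
  ∃ (K : Subgroup G) (f : ↥K →* X), Function.Surjective f

variable {G X Y : Type u} [Group G] [Group X] [Group Y] {p : ℕ}

theorem IsSec.refl (G : Type u) [Group G] : IsSec G G :=
  ⟨⊤, (Subgroup.topEquiv : (⊤ : Subgroup G) ≃* G).toMonoidHom, (Subgroup.topEquiv : (⊤ : Subgroup G) ≃* G).surjective⟩

theorem IsSec.of_surjective (h : IsSec G X) (q : X →* Y) (hq : Function.Surjective q) : IsSec G Y :=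
  let ⟨K, f, hf⟩ := h
  ⟨K, q.comp f, hq.comp hf⟩

theorem IsSec.subgroup (h : IsSec G X) (H : Subgroup X) : IsSec G ↥H := by
  obtain ⟨K, f, hf⟩ := h
  let e := (H.comap f).equivMapOfInjective K.subtype K.subtype_injective
  exact ⟨(H.comap f).map K.subtype, (f.subgroupComap H).comp e.symm.toMonoidHom,
    (f.subgroupComap_surjective_of_surjective H hf).comp e.symm.surjective⟩

theorem IsSec.trans (h : IsSec G X) (h' : IsSec X Y) : IsSec G Y :=
  let ⟨K, f, hf⟩ := h'
  (h.subgroup K).of_surjective f hf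

theorem IsSec.finite [Finite G] (h : IsSec G X) : Finite X :=
  let ⟨_, f, hf⟩ := h
  Finite.of_surjective f hf

theorem isSec_quotient (K R : Subgroup G) [(R.subgroupOf K).Normal] : IsSec G (↥K ⧸ R.subgroupOf K) :=
  ⟨K, QuotientGroup.mk' _, QuotientGroup.mk'_surjective _⟩

theorem IsSec.exists_equiv (h : IsSec G X) :
    ∃ (K R : Subgroup G) (_ : (R.subgroupOf K).Normal), Nonempty (↥K ⧸ R.subgroupOf K ≃* X) :=
  let ⟨_, f, hf⟩ := h
  Involves.involves_of_hom f hf

/-! ### Functors -/

variable {W : ∀ (Q : Type u) [Group Q], Subgroup Q}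

theorem map_inducedFunctor [Finite X] (hW : IsCharPFunctor.{u} p W) (f : X →* G) (hf : Function.Injective f)
    {P : Subgroup X} (hP : IsPGroup p P) :
    inducedFunctor W (P.map f) = (inducedFunctor W P).map f := by
  have h := hW.2 ↥P ↥(P.map f) hP (P.equivMapOfInjective f hf)
  show (W ↥(P.map f)).map (P.map f).subtype = ((W ↥P).map P.subtype).map f
  rw [← h, Subgroup.map_map, Subgroup.map_map]
  rfl

theorem inducedFunctor_le (W : ∀ (Q : Type u) [Group Q], Subgroup Q) (P : Subgroup G) : inducedFunctor W P ≤ P :=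
  Subgroup.map_subtype_le _

theorem isConjugacyFunctor_induced [Finite G] (hW : IsCharPFunctor.{u} p W) :
    IsConjugacyFunctor p (inducedFunctor (G := G) W) := by
  intro P hP
  refine ⟨inducedFunctor_le W P, fun hne => ?_, fun g =>
    map_inducedFunctor hW (MulAut.conj g).toMonoidHom (MulAut.conj g).injective hP⟩
  have hnt : Nontrivial ↥P := (Subgroup.nontrivial_iff_ne_bot P).2 hne
  exact fun h => hW.1 ↥P hP hnt ((Subgroup.map_eq_bot_iff_of_injective _ P.subtype_injective).1 h)

theorem forall_isConjugacyFunctor [Finite G] {𝓦 : Set (∀ (Q : Type u) [Group Q], Subgroup Q)}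
    (h𝓦 : ∀ W ∈ 𝓦, IsCharPFunctor.{u} p W) :
    ∀ W' ∈ (fun W => inducedFunctor (G := G) W) '' 𝓦, IsConjugacyFunctor p W' := by
  rintro _ ⟨W, hW, rfl⟩
  exact isConjugacyFunctor_induced (h𝓦 W hW)

/-- The characteristic subgroup cut out by a functor in a normal `p`-subgroup is normal. -/
theorem inducedFunctor_normal [Finite G] (hW : IsCharPFunctor.{u} p W) {P : Subgroup G} [P.Normal]
    (hP : IsPGroup p P) : (inducedFunctor W P).Normal := by
  refine Subgroup.normalizer_eq_top_iff.1 (top_le_iff.1 ?_)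
  rw [← Subgroup.normalizer_eq_top (H := P)]
  exact AlperinFamily.normalizer_le_normalizer_functor (isConjugacyFunctor_induced hW) hP

/-! ### Transport of control along injective homomorphisms -/

theorem range_inf_normalizer_map (f : X →* G) (hf : Function.Injective f) (P : Subgroup X) :
    f.range ⊓ Subgroup.normalizer ((P.map f : Subgroup G) : Set G) = (Subgroup.normalizer (P : Set X)).map f := by
  rw [← Subgroup.map_comap_eq, Subgroup.comap_normalizer_eq_of_le_range (P.map_le_range f),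
    Subgroup.comap_map_eq_self_of_injective hf]

variable {𝓦 : Set (∀ (Q : Type u) [Group Q], Subgroup Q)}

theorem familyControlsTransferIn_map [Finite X] (f : X →* G) (hf : Function.Injective f)
    (h𝓦 : ∀ W ∈ 𝓦, IsCharPFunctor.{u} p W)
    (h : FamilyControlsTransferIn p ((fun W => inducedFunctor (G := X) W) '' 𝓦) ⊤) :
    FamilyControlsTransferIn p ((fun W => inducedFunctor (G := G) W) '' 𝓦) f.range := by
  obtain ⟨T, -, hTp, hTd, hT⟩ := h
  refine ⟨T.map f, T.map_le_range f, hTp.map f, ?_, ?_⟩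
  · rwa [MonoidHom.range_eq_map, Subgroup.relIndex_map_map_of_injective _ _ hf]
  rw [iSup_image] at hT ⊢
  calc T.map f ⊓ ⁅f.range, f.range⁆ = (T ⊓ ⁅(⊤ : Subgroup X), ⊤⁆).map f := by
        rw [Subgroup.map_inf _ _ f hf, Subgroup.map_commutator, MonoidHom.range_eq_map]
    _ = _ := by
        rw [hT, Subgroup.map_iSup]
        refine iSup_congr fun W => ?_
        rw [Subgroup.map_iSup]
        refine iSup_congr fun hW => ?_
        rw [Subgroup.map_inf _ _ f hf, Subgroup.map_commutator, top_inf_eq,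
          map_inducedFunctor (h𝓦 W hW) f hf hTp, range_inf_normalizer_map f hf]

theorem familyControlsStrongFusionIn_map [Finite X] (f : X →* G) (hf : Function.Injective f)
    (h𝓦 : ∀ W ∈ 𝓦, IsCharPFunctor.{u} p W)
    (h : FamilyControlsStrongFusionIn p ((fun W => inducedFunctor (G := X) W) '' 𝓦) ⊤) :
    FamilyControlsStrongFusionIn p ((fun W => inducedFunctor (G := G) W) '' 𝓦) f.range := by
  obtain ⟨T, -, hTp, hTd, hT⟩ := h
  refine ⟨T.map f, T.map_le_range f, hTp.map f, ?_, ?_⟩
  · rwa [MonoidHom.range_eq_map, Subgroup.relIndex_map_map_of_injective _ _ hf]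
  rintro A g ⟨y, rfl⟩ hA hgA
  have hA' : f ⁻¹' A ⊆ T := fun a ha => by
    obtain ⟨b, hb, hbe⟩ := hA ha
    rwa [← hf hbe]
  have hgA' : (fun a => y * a * y⁻¹) '' (f ⁻¹' A) ⊆ T := by
    rintro _ ⟨a, ha, rfl⟩
    obtain ⟨b, hb, hbe⟩ := hgA ⟨f a, ha, rfl⟩
    have : b = y * a * y⁻¹ := hf (by rw [hbe, map_mul, map_mul, map_inv])
    rw [this] at hb
    exact hb
  obtain ⟨n, c, h0, hc, hcT, hce⟩ := hT (f ⁻¹' A) y trivial hA' hgA'
  refine ⟨n, fun i => f (c i), by simp [h0], fun i => ?_, fun i => ?_, fun a ha => ?_⟩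
  · obtain ⟨_, ⟨W, hW, rfl⟩, hWc⟩ := hc i
    refine ⟨_, ⟨W, hW, rfl⟩, ?_⟩
    show _ ∈ f.range ⊓ Subgroup.normalizer ((inducedFunctor W (T.map f) : Subgroup G) : Set G)
    rw [map_inducedFunctor (h𝓦 W hW) f hf hTp, range_inf_normalizer_map f hf, ← map_inv, ← map_mul]
    exact ⟨_, hWc.2, rfl⟩
  · rintro _ ⟨a, ha, rfl⟩
    obtain ⟨b, -, rfl⟩ := hA ha
    exact ⟨c i * b * (c i)⁻¹, hcT i ⟨b, ha, rfl⟩, by rw [map_mul, map_mul, map_inv]⟩
  · obtain ⟨b, -, rfl⟩ := hA ha
    simpa only [map_mul, map_inv] using congrArg f (hce b ha)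

theorem familyControlsTransferIn_subgroup [Finite G] (h𝓦 : ∀ W ∈ 𝓦, IsCharPFunctor.{u} p W) (H : Subgroup G)
    (h : FamilyControlsTransferIn p ((fun W => inducedFunctor (G := ↥H) W) '' 𝓦) ⊤) :
    FamilyControlsTransferIn p ((fun W => inducedFunctor (G := G) W) '' 𝓦) H := by
  have := familyControlsTransferIn_map H.subtype H.subtype_injective h𝓦 h
  rwa [Subgroup.range_subtype] at this

theorem familyControlsStrongFusionIn_subgroup [Finite G] (h𝓦 : ∀ W ∈ 𝓦, IsCharPFunctor.{u} p W) (H : Subgroup G)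
    (h : FamilyControlsStrongFusionIn p ((fun W => inducedFunctor (G := ↥H) W) '' 𝓦) ⊤) :
    FamilyControlsStrongFusionIn p ((fun W => inducedFunctor (G := G) W) '' 𝓦) H := by
  have := familyControlsStrongFusionIn_map H.subtype H.subtype_injective h𝓦 h
  rwa [Subgroup.range_subtype] at this

theorem familyControlsTransferIn_equiv [Finite X] (e : X ≃* G) (h𝓦 : ∀ W ∈ 𝓦, IsCharPFunctor.{u} p W)
    (h : FamilyControlsTransferIn p ((fun W => inducedFunctor (G := X) W) '' 𝓦) ⊤) :
    FamilyControlsTransferIn p ((fun W => inducedFunctor (G := G) W) '' 𝓦) ⊤ := by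
  have := familyControlsTransferIn_map e.toMonoidHom e.injective h𝓦 h
  rwa [MonoidHom.range_eq_top.2 e.surjective] at this

theorem familyControlsStrongFusionIn_equiv [Finite X] (e : X ≃* G) (h𝓦 : ∀ W ∈ 𝓦, IsCharPFunctor.{u} p W)
    (h : FamilyControlsStrongFusionIn p ((fun W => inducedFunctor (G := X) W) '' 𝓦) ⊤) :
    FamilyControlsStrongFusionIn p ((fun W => inducedFunctor (G := G) W) '' 𝓦) ⊤ := by
  have := familyControlsStrongFusionIn_map e.toMonoidHom e.injective h𝓦 h
  rwa [MonoidHom.range_eq_top.2 e.surjective] at this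

/-! ### Homomorphisms with kernel of order prime to `p` -/

theorem inf_eq_bot_of_coprime [Finite G] [Fact p.Prime] {P N : Subgroup G} (hP : IsPGroup p P)
    (hN : ¬ p ∣ Nat.card N) : P ⊓ N = ⊥ := by
  rw [eq_bot_iff]
  intro x hx
  obtain ⟨k, hk⟩ := IsPGroup.iff_orderOf.1 hP ⟨x, hx.1⟩
  rw [Subgroup.orderOf_mk] at hk
  have h2 : p ^ k ∣ Nat.card N := by
    rw [← hk, ← Subgroup.orderOf_mk x hx.2]
    exact orderOf_dvd_natCard _
  cases k with
  | zero => rw [pow_zero, orderOf_eq_one_iff] at hk; exact Subgroup.mem_bot.2 hk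
  | succ k => exact absurd ((dvd_pow_self p k.succ_ne_zero).trans h2) hN

theorem injective_comp_subtype [Finite G] [Fact p.Prime] (q : G →* X) {P : Subgroup G} (hP : IsPGroup p P)
    (hker : ¬ p ∣ Nat.card q.ker) : Function.Injective (q.comp P.subtype) := by
  rw [← MonoidHom.ker_eq_bot_iff, eq_bot_iff]
  intro x hx
  have h : (x : G) ∈ P ⊓ q.ker := ⟨x.2, hx⟩
  rw [inf_eq_bot_of_coprime hP hker] at h
  exact Subgroup.mem_bot.2 (Subtype.ext (Subgroup.mem_bot.1 h))

theorem map_inducedFunctor_of_coprime [Finite G] [Fact p.Prime] (hW : IsCharPFunctor.{u} p W) (q : G →* X)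
    (hker : ¬ p ∣ Nat.card q.ker) {P : Subgroup G} (hP : IsPGroup p P) :
    inducedFunctor W (P.map q) = (inducedFunctor W P).map q := by
  have hPt : IsPGroup p (⊤ : Subgroup ↥P) := hP.to_subgroup _
  have h1 := map_inducedFunctor hW (q.comp P.subtype) (injective_comp_subtype q hP hker) hPt
  have h2 := map_inducedFunctor hW P.subtype P.subtype_injective hPt
  rw [← MonoidHom.range_eq_map, Subgroup.range_subtype] at h2
  rw [← Subgroup.map_map, ← MonoidHom.range_eq_map, Subgroup.range_subtype, ← Subgroup.map_map] at h1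
  rw [h1, h2]

theorem map_normalizer_of_coprime [Finite G] [Fact p.Prime] (q : G →* X) (hq : Function.Surjective q)
    (hker : ¬ p ∣ Nat.card q.ker) {P : Subgroup G} (hP : IsPGroup p P) :
    (Subgroup.normalizer (P : Set G)).map q = Subgroup.normalizer ((P.map q : Subgroup X) : Set X) := by
  refine le_antisymm (Subgroup.le_normalizer_map q) fun x hx => ?_
  obtain ⟨g, rfl⟩ := hq x
  set H := P ⊔ q.ker with hH
  have hd : ¬ p ∣ P.relIndex H := by
    intro hdvd
    have h1 : P.relIndex H * Nat.card P = Nat.card H := by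
      rw [Subgroup.relIndex, mul_comm, ← Cores.card_subgroupOf (le_sup_left : P ≤ H)]
      exact Subgroup.card_mul_index _
    have h2 : P.relIndex H * Nat.card P ∣ Nat.card q.ker * Nat.card P := by
      rw [h1, mul_comm _ (Nat.card P)]
      exact Cores.card_sup_dvd P q.ker
    exact hker (hdvd.trans (Nat.dvd_of_mul_dvd_mul_right Nat.card_pos h2))
  have hgH : AlperinFamily.cj g P ≤ H := by
    rintro _ ⟨y, hy, rfl⟩
    have h1 : q (g * y * g⁻¹) ∈ P.map q := by
      rw [map_mul, map_mul, map_inv]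
      exact (Subgroup.mem_normalizer_iff.1 hx (q y)).1 ⟨y, hy, rfl⟩
    show g * y * g⁻¹ ∈ H
    rw [hH, ← Subgroup.comap_map_eq]
    exact h1
  have hgd : ¬ p ∣ (AlperinFamily.cj g P).relIndex H := by
    intro hdvd
    refine hd (dvd_trans hdvd (dvd_of_eq ?_))
    have e1 : (AlperinFamily.cj g P).relIndex H * Nat.card P = Nat.card H := by
      rw [Subgroup.relIndex, mul_comm, ← AlperinFamily.card_cj g P, ← Cores.card_subgroupOf hgH]
      exact Subgroup.card_mul_index _
    have e2 : P.relIndex H * Nat.card P = Nat.card H := by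
      rw [Subgroup.relIndex, mul_comm, ← Cores.card_subgroupOf (le_sup_left : P ≤ H)]
      exact Subgroup.card_mul_index _
    exact Nat.eq_of_mul_eq_mul_right Nat.card_pos (e1.trans e2.symm)
  obtain ⟨c, hc, hce⟩ := AlperinFamily.exists_conj_sylowish hgH (hP.map _) hgd le_sup_left hP hd
  have h1 : c * g ∈ Subgroup.normalizer (P : Set G) := by
    rw [← AlperinFamily.cj_eq_iff, ← AlperinFamily.cj_cj, hce]
  have h2 : q c ∈ (Subgroup.normalizer (P : Set G)).map q := by
    have h3 : q c ∈ P.map q := by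
      rw [← Subgroup.mem_comap, Subgroup.comap_map_eq]
      exact hc
    exact Subgroup.map_mono Subgroup.le_normalizer h3
  have := mul_mem (inv_mem h2) (Subgroup.mem_map_of_mem q h1)
  rwa [map_mul, inv_mul_cancel_left] at this

end Cfsg.Agent.FunctorControl
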