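/-
The structure of a minimal group in which a set of isomorphism-invariant p-group functors fails to control
transfer.

Main results (namespace `Cfsg.Agent.FunctorControl`): `focalF`, `controlsTransfer_iff`, `TransferMin`,
`TransferMin.inf_le_sup`, `TransferMin.charP`, `TransferMin.centralizer_pCore_le`.
-/
import Cfsg.Agent.Lib.FunctorControl.Sections
import Cfsg.Agent.Lib.StrongEmb.Basic

set_option autoImplicit false
open Cfsg
open scoped commutatorElement

namespace Cfsg.Agent.FunctorControl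

universe u

variable {G : Type u} [Group G] {p : ℕ} {𝓦 : Set (∀ (Q : Type u) [Group Q], Subgroup Q)}

/-- The subgroup generated by the `S ∩ N(W S)'`. -/
def focalF (𝓦 : Set (∀ (Q : Type u) [Group Q], Subgroup Q)) (S : Subgroup G) : Subgroup G :=
  ⨆ W ∈ 𝓦, S ⊓ ⁅Subgroup.normalizer ((inducedFunctor W S : Subgroup G) : Set G),
    Subgroup.normalizer ((inducedFunctor W S : Subgroup G) : Set G)⁆

theorem focalF_le (S : Subgroup G) : focalF 𝓦 S ≤ S ⊓ ⁅(⊤ : Subgroup G), (⊤ : Subgroup G)⁆ :=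
  iSup₂_le fun _ _ => inf_le_inf_left _
    (Subgroup.commutator_mono (le_top : _ ≤ (⊤ : Subgroup G)) (le_top : _ ≤ (⊤ : Subgroup G)))

theorem controlsTransfer_at_top [Finite G] [Fact p.Prime] (h𝓦 : ∀ W ∈ 𝓦, IsCharPFunctor.{u} p W) (S : Sylow p G)
    (h : FamilyControlsTransferIn p ((fun W => inducedFunctor (G := G) W) '' 𝓦) ⊤) :
    (S : Subgroup G) ⊓ ⁅(⊤ : Subgroup G), (⊤ : Subgroup G)⁆ = focalF 𝓦 (S : Subgroup G) := by
  rw [AlperinFamily.familyControlsTransfer_at (forall_isConjugacyFunctor h𝓦) le_top S.isPGroup'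
    (by rw [Subgroup.relIndex_top_right]; exact S.not_dvd_index) h, iSup_image]
  simp only [top_inf_eq, focalF]

theorem controlsTransfer_iff [Finite G] [Fact p.Prime] (h𝓦 : ∀ W ∈ 𝓦, IsCharPFunctor.{u} p W) (S : Sylow p G) :
    FamilyControlsTransferIn p ((fun W => inducedFunctor (G := G) W) '' 𝓦) ⊤ ↔
      (S : Subgroup G) ⊓ ⁅(⊤ : Subgroup G), (⊤ : Subgroup G)⁆ ≤ focalF 𝓦 (S : Subgroup G) := by
  refine ⟨fun h => (controlsTransfer_at_top h𝓦 S h).le, fun h => ⟨S, le_top, S.isPGroup',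
    by rw [Subgroup.relIndex_top_right]; exact S.not_dvd_index, ?_⟩⟩
  rw [iSup_image]
  simp only [top_inf_eq]
  exact le_antisymm h (focalF_le _)

/-- A central element of a Sylow subgroup lying in `G'` lies in the derived subgroup of the Sylow subgroup. -/
theorem mem_derived_of_central [Finite G] [Fact p.Prime] (S : Sylow p G) {z : G} (hz : z ∈ Subgroup.center G)
    (hzS : z ∈ (S : Subgroup G)) (hzG : z ∈ ⁅(⊤ : Subgroup G), (⊤ : Subgroup G)⁆) :
    z ∈ ⁅(S : Subgroup G), (S : Subgroup G)⁆ := by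
  set φ := MonoidHom.transfer (Abelianization.of (G := ↥(S : Subgroup G)))
  have h1 : φ z = 1 := Abelianization.commutator_subset_ker φ hzG
  have key : ∀ (k : ℕ) (g₀ : G), g₀⁻¹ * z ^ k * g₀ ∈ (S : Subgroup G) → g₀⁻¹ * z ^ k * g₀ = z ^ k :=
    fun k g₀ _ => by
      rw [mul_assoc, ← Subgroup.mem_center_iff.1 (pow_mem hz k) g₀, inv_mul_cancel_left]
  rw [MonoidHom.transfer_eq_pow _ z key] at h1
  have h2 : (⟨z, hzS⟩ : ↥(S : Subgroup G)) ^ (S : Subgroup G).index ∈ commutator ↥(S : Subgroup G) := by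
    rw [← Abelianization.ker_of]
    refine Eq.trans (congrArg Abelianization.of (Subtype.ext ?_)) h1
    simp
  have hcop : (orderOf (⟨z, hzS⟩ : ↥(S : Subgroup G))).Coprime (S : Subgroup G).index := by
    obtain ⟨k, hk⟩ := IsPGroup.iff_orderOf.1 S.isPGroup' ⟨z, hzS⟩
    rw [hk]
    exact ((Fact.out : p.Prime).coprime_iff_not_dvd.2 S.not_dvd_index).pow_left k
  obtain ⟨m, hm⟩ := exists_pow_eq_self_of_coprime hcop.symm
  have h3 : (⟨z, hzS⟩ : ↥(S : Subgroup G)) ∈ commutator ↥(S : Subgroup G) := by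
    rw [← hm]
    exact pow_mem h2 m
  rw [← Subgroup.map_subtype_commutator]
  exact ⟨_, h3, rfl⟩

/-- If `S ∩ C(Q) ≤ Q` and `C(Q) ≰ O_p(G)`, there is a nontrivial normal subgroup of order prime to `p`. -/
theorem exists_coprime_normal [Finite G] [Fact p.Prime] (S : Sylow p G) (Q : Subgroup G) [Q.Normal]
    (hR : (S : Subgroup G) ⊓ Subgroup.centralizer (Q : Set G) ≤ Q)
    (hCQ : ¬ Subgroup.centralizer (Q : Set G) ≤ pCore p G) :
    ∃ H : Subgroup G, H.Normal ∧ ¬ p ∣ Nat.card H ∧ H ≠ ⊥ := by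
  set C := Subgroup.centralizer (Q : Set G) with hCdef
  haveI hCn : C.Normal := by rw [hCdef]; infer_instance
  have hZ : (S : Subgroup G).subgroupOf C ≤ Subgroup.center ↥C := fun x hx =>
    Subgroup.mem_center_iff.2 fun y => Subtype.ext
      ((Subgroup.mem_centralizer_iff.1 y.2 x (hR ⟨hx, x.2⟩)).symm)
  have hd : ¬ p ∣ ((S : Subgroup G).subgroupOf C).index := StrongEmb.not_dvd_relIndex_inf S C
  obtain ⟨t, ht⟩ := Subgroup.index_dvd_of_le hZ
  set r := ((S : Subgroup G).subgroupOf C).index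
  haveI : IsMulCommutative ↥(Subgroup.center ↥C) := inferInstance
  let φ : ↥C →* ↥C :=
    { toFun := fun x => x ^ r
      map_one' := one_pow r
      map_mul' := fun x y => by
        have e := map_mul (MonoidHom.transferCenterPow ↥C) x y
        have e' : (x * y) ^ (Subgroup.center ↥C).index = x ^ (Subgroup.center ↥C).index *
            y ^ (Subgroup.center ↥C).index := congrArg Subtype.val e
        rw [ht, pow_mul, e', Commute.mul_pow, ← pow_mul, ← pow_mul]
        exact Subgroup.mem_center_iff.1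
          (MonoidHom.transferCenterPow ↥C y).2 (x ^ (Subgroup.center ↥C).index) }
  set H := φ.ker.map C.subtype with hHdef
  have hmem : ∀ g : G, g ∈ H ↔ g ∈ C ∧ g ^ r = 1 := by
    intro g
    constructor
    · rintro ⟨x, hx, rfl⟩
      have h1 : x ^ r = 1 := MonoidHom.mem_ker.1 hx
      exact ⟨x.2, by simpa using congrArg Subtype.val h1⟩
    · rintro ⟨hg, hgr⟩
      exact ⟨⟨g, hg⟩, Subtype.ext (by simpa [φ] using hgr), rfl⟩
  haveI : H.Normal := ⟨fun x hx g => (hmem _).2 ⟨hCn.conj_mem x ((hmem x).1 hx).1 g, by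
    rw [conj_pow, ((hmem x).1 hx).2, mul_one, mul_inv_cancel]⟩⟩
  have hHp : ¬ p ∣ Nat.card H := by
    intro hdvd
    obtain ⟨x, hx⟩ := exists_prime_orderOf_dvd_card' p hdvd
    have h1 : orderOf (x : G) ∣ r := orderOf_dvd_of_pow_eq_one ((hmem _).1 x.2).2
    rw [Subgroup.orderOf_coe, hx] at h1
    exact hd h1
  refine ⟨H, inferInstance, hHp, fun hH => hCQ (Cores.le_pCore hCn ?_)⟩
  have hinj : φ.ker = ⊥ := (Subgroup.map_eq_bot_iff_of_injective _ C.subtype_injective).1 hH
  intro x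
  obtain ⟨k, m, hm, hkm⟩ := Nat.exists_eq_pow_mul_and_not_dvd (orderOf_pos x).ne' p (Fact.out : p.Prime).ne_one
  refine ⟨k, ?_⟩
  have hS' : IsPGroup p ((S : Subgroup G).subgroupOf C) := S.isPGroup'.comap_subtype
  obtain ⟨e, he⟩ := IsPGroup.iff_card.1 hS'
  have hcard : Nat.card ↥C = p ^ e * r := by rw [← he]; exact (Subgroup.card_mul_index _).symm
  have h1 : m ∣ p ^ e * r := hcard ▸ (dvd_mul_left m (p ^ k)).trans (hkm ▸ orderOf_dvd_natCard x)
  have h2 : m ∣ r :=
    (Nat.Coprime.pow_right e ((Fact.out : p.Prime).coprime_iff_not_dvd.2 hm).symm).dvd_of_dvd_mul_left h1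
  obtain ⟨w, hw⟩ := h2
  have h3 : (x ^ p ^ k) ∈ φ.ker := by
    show (x ^ p ^ k) ^ r = 1
    rw [← pow_mul, hw, ← mul_assoc, ← hkm, pow_mul, pow_orderOf_eq_one, one_pow]
  rwa [hinj, Subgroup.mem_bot] at h3

/-- All proper subgroups and all proper quotients are controlled, but `G` is not. -/
structure TransferMin [Finite G] (p : ℕ) (𝓦 : Set (∀ (Q : Type u) [Group Q], Subgroup Q)) (S : Sylow p G) :
    Prop where
  char : ∀ W ∈ 𝓦, IsCharPFunctor.{u} p W
  proper : ∀ H : Subgroup G, H ≠ ⊤ → FamilyControlsTransferIn p ((fun W => inducedFunctor (G := G) W) '' 𝓦) H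
  quot : ∀ (N : Subgroup G) [N.Normal], N ≠ ⊥ →
    FamilyControlsTransferIn p ((fun W => inducedFunctor (G := G ⧸ N) W) '' 𝓦) ⊤
  fail : ¬ FamilyControlsTransferIn p ((fun W => inducedFunctor (G := G) W) '' 𝓦) ⊤

namespace TransferMin

variable [Finite G] [Fact p.Prime] {S : Sylow p G}

theorem inf_derived_le (h : TransferMin p 𝓦 S) {H : Subgroup G} (hSH : (S : Subgroup G) ≤ H) (hH : H ≠ ⊤) :
    (S : Subgroup G) ⊓ ⁅H, H⁆ ≤ focalF 𝓦 (S : Subgroup G) := by
  have hd : ¬ p ∣ (S : Subgroup G).relIndex H := fun hd =>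
    S.not_dvd_index (hd.trans (Subgroup.relIndex_dvd_index_of_le hSH))
  rw [AlperinFamily.familyControlsTransfer_at (forall_isConjugacyFunctor h.char) hSH S.isPGroup' hd
    (h.proper H hH), iSup_image]
  exact iSup₂_mono fun W _ => inf_le_inf_left _ (Subgroup.commutator_mono inf_le_right inf_le_right)

theorem pCore_ne_bot (h : TransferMin p 𝓦 S) : pCore p G ≠ ⊥ := by
  intro hQ
  refine h.fail (AlperinFamily.familyControlsTransferIn_top S (forall_isConjugacyFunctor h.char)
    (AlperinFamily.FN p (S : Subgroup G)) (fun _ hT => hT) (fun U hU => AlperinFamily.fn_reps S U hU)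
    fun T hT hT1 _ => h.proper _ fun htop => hT1 ?_)
  exact le_bot_iff.1 ((Cores.le_pCore (Subgroup.normalizer_eq_top_iff.1 htop)
    (S.isPGroup'.to_le hT)).trans hQ.le)

theorem derived_sylow_le (h : TransferMin p 𝓦 S) (hS : (S : Subgroup G) ≠ ⊤) :
    ⁅(S : Subgroup G), (S : Subgroup G)⁆ ≤ focalF 𝓦 (S : Subgroup G) :=
  le_trans (le_inf (Subgroup.le_normalizer_iff_commutator_le_right.1 Subgroup.le_normalizer) le_rfl)
    (h.inf_derived_le le_rfl hS)

theorem inf_le_sup (h : TransferMin p 𝓦 S) (hS : (S : Subgroup G) ≠ ⊤) :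
    (S : Subgroup G) ⊓ ⁅(⊤ : Subgroup G), (⊤ : Subgroup G)⁆ ≤ focalF 𝓦 (S : Subgroup G) ⊔ ⁅pCore p G, ⊤⁆ := by
  set Q := pCore p G with hQdef
  set F := focalF 𝓦 (S : Subgroup G) with hFdef
  haveI hQn : Q.Normal := Cores.pCore_normal p G
  have hQp : IsPGroup p Q := Cores.isPGroup_pCore p G
  have hQS : Q ≤ (S : Subgroup G) := Cores.pCore_le_sylow S
  -- modulo `Q`
  have h1 : (S : Subgroup G) ⊓ ⁅(⊤ : Subgroup G), (⊤ : Subgroup G)⁆ ≤ F ⊔ Q := by
    by_cases hSQ : (S : Subgroup G) ≤ Q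
    · exact inf_le_left.trans (hSQ.trans le_sup_right)
    set q := QuotientGroup.mk' Q with hq
    have hqs : Function.Surjective q := QuotientGroup.mk'_surjective Q
    let T : Sylow p (G ⧸ Q) := S.mapSurjective hqs
    have hT : (T : Subgroup (G ⧸ Q)) = (S : Subgroup G).map q := rfl
    have hctl := controlsTransfer_at_top h.char T (h.quot Q h.pCore_ne_bot)
    intro x hx
    have hx' : q x ∈ focalF 𝓦 (T : Subgroup (G ⧸ Q)) := by
      rw [← hctl]
      refine ⟨⟨x, hx.1, rfl⟩, ?_⟩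
      have := Subgroup.mem_map_of_mem q hx.2
      rw [Subgroup.map_commutator, ← MonoidHom.range_eq_map, MonoidHom.range_eq_top.2 hqs] at this
      exact this
    have hle : focalF 𝓦 (T : Subgroup (G ⧸ Q)) ≤ F.map q := by
      refine iSup₂_le fun W hW => ?_
      have hcj := isConjugacyFunctor_induced (G := G ⧸ Q) (h.char W hW)
      set P := inducedFunctor W (T : Subgroup (G ⧸ Q))
      set N := Subgroup.normalizer (P : Set (G ⧸ Q))
      have hTne : (T : Subgroup (G ⧸ Q)) ≠ ⊥ := fun e => hSQ (by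
        rw [hT, Subgroup.map_eq_bot_iff, hq, QuotientGroup.ker_mk'] at e
        exact e)
      have hN : N ≠ ⊤ := by
        intro e
        refine (hcj _ T.isPGroup').2.1 hTne (le_bot_iff.1 ?_)
        refine le_trans ?_ (Cores.pCore_quotient_self p G).le
        exact Cores.le_pCore (Subgroup.normalizer_eq_top_iff.1 e) (T.isPGroup'.to_le (hcj _ T.isPGroup').1)
      have hN1 : N.comap q ≠ ⊤ := fun e => hN (by
        rw [← Subgroup.map_comap_eq_self_of_surjective hqs N, e, ← MonoidHom.range_eq_map,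
          MonoidHom.range_eq_top.2 hqs])
      have hSN : (S : Subgroup G) ≤ N.comap q := Subgroup.map_le_iff_le_comap.1
        (hT.symm.le.trans (AlperinFamily.le_normalizer_functor hcj T.isPGroup'))
      rintro z ⟨hzT, hzN⟩
      rw [← Subgroup.map_comap_eq_self_of_surjective hqs N, ← Subgroup.map_commutator] at hzN
      obtain ⟨n, hn, rfl⟩ := hzN
      refine ⟨n, h.inf_derived_le hSN hN1 ⟨?_, hn⟩, rfl⟩
      have hzT' : n ∈ ((S : Subgroup G).map q).comap q := hzT
      rw [Subgroup.comap_map_eq, hq, QuotientGroup.ker_mk', sup_eq_left.2 hQS] at hzT'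
      exact hzT'
    have hx2 := hle hx'
    rw [← Subgroup.mem_comap, Subgroup.comap_map_eq, hq, QuotientGroup.ker_mk'] at hx2
    exact hx2
  -- the part inside `Q`
  intro x hx
  have hx1 : x ∈ ((F ⊔ Q : Subgroup G) : Set G) := h1 hx
  rw [Subgroup.mul_normal] at hx1
  obtain ⟨f, hf, k, hk, rfl⟩ := hx1
  have hfG : f ∈ ⁅(⊤ : Subgroup G), (⊤ : Subgroup G)⁆ := (focalF_le (S : Subgroup G) hf).2
  have hfkG : f * k ∈ ⁅(⊤ : Subgroup G), (⊤ : Subgroup G)⁆ := hx.2
  have hkG : k ∈ ⁅(⊤ : Subgroup G), (⊤ : Subgroup G)⁆ := by simpa using mul_mem (inv_mem hfG) hfkG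
  show f * k ∈ _
  refine mul_mem (Subgroup.mem_sup_left hf) ?_
  set D := ⁅Q, (⊤ : Subgroup G)⁆ with hDdef
  haveI hDn : D.Normal := Subgroup.commutator_normal _ _
  set q := QuotientGroup.mk' D with hq
  have hqs : Function.Surjective q := QuotientGroup.mk'_surjective D
  have hc : q k ∈ Subgroup.center (G ⧸ D) := Subgroup.mem_center_iff.2 fun y => by
    obtain ⟨g, rfl⟩ := hqs y
    refine (commutatorElement_eq_one_iff_mul_comm.1 ?_).symm
    rw [← map_commutatorElement]
    exact (QuotientGroup.eq_one_iff _).2 (Subgroup.commutator_mem_commutator hk (Subgroup.mem_top g))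
  have hmem := mem_derived_of_central (S.mapSurjective hqs) hc ⟨k, hQS hk, rfl⟩ (by
    have := Subgroup.mem_map_of_mem q hkG
    rw [Subgroup.map_commutator, ← MonoidHom.range_eq_map, MonoidHom.range_eq_top.2 hqs] at this
    exact this)
  rw [Sylow.coe_mapSurjective, ← Subgroup.map_commutator, ← Subgroup.mem_comap, Subgroup.comap_map_eq, hq,
    QuotientGroup.ker_mk'] at hmem
  exact sup_le_sup_right (h.derived_sylow_le hS) D hmem

theorem not_commutator_pCore_le (h : TransferMin p 𝓦 S) (hS : (S : Subgroup G) ≠ ⊤) :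
    ¬ ⁅pCore p G, (⊤ : Subgroup G)⁆ ≤ focalF 𝓦 (S : Subgroup G) := fun hle =>
  h.fail ((controlsTransfer_iff h.char S).2 ((h.inf_le_sup hS).trans (sup_le le_rfl hle)))

/-- There is no nontrivial normal subgroup of order prime to `p`. -/
theorem eq_bot_of_coprime (h : TransferMin p 𝓦 S) (H : Subgroup G) [H.Normal] (hH : ¬ p ∣ Nat.card H) :
    H = ⊥ := by
  by_contra hne
  refine h.fail ((controlsTransfer_iff h.char S).2 ?_)
  set q := QuotientGroup.mk' H with hq
  have hqs : Function.Surjective q := QuotientGroup.mk'_surjective H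
  have hker : ¬ p ∣ Nat.card q.ker := by rwa [hq, QuotientGroup.ker_mk']
  have hctl := controlsTransfer_at_top h.char (S.mapSurjective hqs) (h.quot H hne)
  intro x hx
  have hx' : q x ∈ focalF 𝓦 ((S : Subgroup G).map q) := by
    rw [← Sylow.coe_mapSurjective hqs S, ← hctl]
    refine ⟨⟨x, hx.1, rfl⟩, ?_⟩
    have := Subgroup.mem_map_of_mem q hx.2
    rw [Subgroup.map_commutator, ← MonoidHom.range_eq_map, MonoidHom.range_eq_top.2 hqs] at this
    exact this
  have hle : focalF 𝓦 ((S : Subgroup G).map q) ≤ (focalF 𝓦 (S : Subgroup G)).map q := by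
    refine iSup₂_le fun W hW => ?_
    have hcj := isConjugacyFunctor_induced (G := G) (h.char W hW)
    set N := Subgroup.normalizer ((inducedFunctor W (S : Subgroup G) : Subgroup G) : Set G)
    rw [map_inducedFunctor_of_coprime (h.char W hW) q hker S.isPGroup',
      ← map_normalizer_of_coprime q hqs hker (S.isPGroup'.to_le (inducedFunctor_le W _))]
    rintro _ ⟨⟨s, hs, rfl⟩, hzN⟩
    rw [← Subgroup.map_commutator] at hzN
    obtain ⟨n, hn, hne'⟩ := hzN
    refine ⟨s, Subgroup.mem_iSup_of_mem W (Subgroup.mem_iSup_of_mem hW ⟨hs, ?_⟩), rfl⟩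
    -- `s = n * y` with `y` a `p'`-element of `N`
    have hy : n⁻¹ * s ∈ N ⊓ H := by
      have hn1 : n ∈ N := Subgroup.le_normalizer_iff_commutator_le_right.1 Subgroup.le_normalizer hn
      have hs1 : s ∈ N := AlperinFamily.le_normalizer_functor hcj S.isPGroup' hs
      refine ⟨N.mul_mem (N.inv_mem hn1) hs1, ?_⟩
      show n⁻¹ * s ∈ H
      rw [← QuotientGroup.eq_one_iff, ← QuotientGroup.mk'_apply, map_mul, map_inv]
      exact inv_mul_eq_one.2 hne'
    set sN : ↥N := ⟨s, AlperinFamily.le_normalizer_functor hcj S.isPGroup' hs⟩ with hsN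
    have h1 : Abelianization.of sN = Abelianization.of (⟨n⁻¹ * s, hy.1⟩ : ↥N) := by
      have hn' : (⟨n, Subgroup.le_normalizer_iff_commutator_le_right.1 Subgroup.le_normalizer hn⟩ : ↥N) ∈
          commutator ↥N := by
        have hn2 := hn
        rw [← Subgroup.map_subtype_commutator] at hn2
        obtain ⟨n', hn', hn''⟩ := hn2
        rwa [show (⟨n, Subgroup.le_normalizer_iff_commutator_le_right.1 Subgroup.le_normalizer hn⟩ : ↥N) = n' from
          Subtype.ext hn''.symm]
      rw [show (⟨n⁻¹ * s, hy.1⟩ : ↥N) =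
        (⟨n, Subgroup.le_normalizer_iff_commutator_le_right.1 Subgroup.le_normalizer hn⟩ : ↥N)⁻¹ * sN from rfl,
        map_mul, map_inv]
      rw [← Abelianization.ker_of] at hn'
      rw [MonoidHom.mem_ker.1 hn', inv_one, one_mul]
    have h2 : Abelianization.of sN = 1 := by
      rw [← orderOf_eq_one_iff]
      obtain ⟨k, hk⟩ := IsPGroup.iff_orderOf.1 S.isPGroup' ⟨s, hs⟩
      rw [Subgroup.orderOf_mk] at hk
      refine Nat.eq_one_of_dvd_coprimes (a := p ^ k) (b := Nat.card H) ?_ ?_ ?_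
      · exact ((Fact.out : p.Prime).coprime_iff_not_dvd.2 hH).pow_left k
      · exact (orderOf_map_dvd _ _).trans (by rw [hsN, Subgroup.orderOf_mk, hk])
      · rw [h1]
        refine (orderOf_map_dvd _ _).trans ?_
        rw [Subgroup.orderOf_mk, ← Subgroup.orderOf_mk (n⁻¹ * s) hy.2]
        exact orderOf_dvd_natCard _
    rw [← MonoidHom.mem_ker, Abelianization.ker_of] at h2
    rw [← Subgroup.map_subtype_commutator]
    exact ⟨sN, h2, rfl⟩
  obtain ⟨f, hf, hfx⟩ := hle hx'
  have hfS := (focalF_le (S : Subgroup G) hf).1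
  have heq : (⟨f, hfS⟩ : ↥(S : Subgroup G)) = ⟨x, hx.1⟩ := injective_comp_subtype q S.isPGroup' hker hfx
  rw [← show f = x from congrArg Subtype.val heq]
  exact hf

/-- A group of minimal failure has characteristic `p`. -/
theorem charP (h : TransferMin p 𝓦 S) :
    Subgroup.centralizer ((pCore p G : Subgroup G) : Set G) ≤ pCore p G := by
  set Q := pCore p G with hQdef
  haveI hQn : Q.Normal := Cores.pCore_normal p G
  have hQp : IsPGroup p Q := Cores.isPGroup_pCore p G
  have hQS : Q ≤ (S : Subgroup G) := Cores.pCore_le_sylow S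
  by_cases hS : (S : Subgroup G) = ⊤
  · refine le_top.trans ?_
    rw [hQdef, Cores.pCore_eq_top_iff.2 (S.isPGroup'.of_equiv ((MulEquiv.subgroupCongr hS).trans Subgroup.topEquiv))]
  set C := Subgroup.centralizer (Q : Set G) with hCdef
  haveI hCn : C.Normal := by rw [hCdef]; infer_instance
  set L := Q ⊔ C with hLdef
  set R := (S : Subgroup G) ⊓ L with hRdef
  have hQR : Q ≤ R := le_inf hQS le_sup_left
  by_cases hR : R ≤ Q
  · -- `Q` is the intersection: split off a `p'`-group
    by_contra hCQ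
    obtain ⟨H, hHn, hHp, hH⟩ := exists_coprime_normal S Q ((inf_le_inf_left _ le_sup_right).trans hR) hCQ
    haveI := hHn
    exact hH (h.eq_bot_of_coprime H hHp)
  · -- the normalizer of the larger intersection controls `[Q, G]`
    exfalso
    set M := Subgroup.normalizer (R : Set G) with hMdef
    have hRp : IsPGroup p R := S.isPGroup'.to_inf_left
    have hM : M ≠ ⊤ := fun e => hR (Cores.le_pCore (Subgroup.normalizer_eq_top_iff.1 e) hRp)
    have hSM : (S : Subgroup G) ≤ M := by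
      refine Subgroup.le_normalizer_iff.2 fun s hs x hx =>
        ⟨(S : Subgroup G).mul_mem ((S : Subgroup G).mul_mem hs hx.1) ((S : Subgroup G).inv_mem hs), ?_⟩
      exact Subgroup.Normal.conj_mem inferInstance x hx.2 s
    have hfr : M ⊔ L = ⊤ := StrongEmb.normalizer_inf_sup_eq_top S L
    have hQM : Q ≤ M := hQS.trans hSM
    refine h.not_commutator_pCore_le hS (le_trans ?_ (h.inf_derived_le hSM hM))
    refine Subgroup.commutator_le.2 fun a ha g _ => ?_
    have hg : g ∈ ((C ⊔ M : Subgroup G) : Set G) := by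
      have : C ⊔ M = ⊤ := top_le_iff.1 (hfr ▸ sup_le le_sup_right (sup_le (hQM.trans le_sup_right) le_sup_left))
      rw [this]; trivial
    rw [Subgroup.normal_mul] at hg
    obtain ⟨c, hc, m, hm, rfl⟩ := hg
    have h1 : ⁅a, c⁆ = 1 := commutatorElement_eq_one_iff_mul_comm.2 (Subgroup.mem_centralizer_iff.1 hc a ha)
    have h2 : c * ⁅a, m⁆ * c⁻¹ = ⁅a, m⁆ := by
      have : ⁅a, m⁆ ∈ Q := Subgroup.commutator_le_left Q ⊤
        (Subgroup.commutator_mem_commutator ha (Subgroup.mem_top m))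
      rw [← Subgroup.mem_centralizer_iff.1 hc _ this, mul_inv_cancel_right]
    rw [commutatorElement_mul_right_eq_mul_conj, h1, one_mul, h2]
    exact ⟨hQS (Subgroup.commutator_le_left Q ⊤ (Subgroup.commutator_mem_commutator ha (Subgroup.mem_top m))),
      Subgroup.commutator_mem_commutator (hQM ha) hm⟩

end TransferMin

end Cfsg.Agent.FunctorControl
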