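/-
The transfer lemma of Glauberman and Yoshida type: good elements have trivial norms.

Main results (namespace `Cfsg.Agent.FunctorControl`):
* `geom_sum_eq_zero_of_nilpotent`: `(γ - 1)^(p-1) = 0` and `p = 0` give `1 + γ + ... + γ^(p-1) = 0`;
* `norm_eq_one`: an element acting with Engel degree `p - 1` on an elementary abelian factor has trivial norm;
* `prod_eq_of_good_generators`: a product over a set acted on by a `p`-group generated by good elements
  equals the product over the fixed points.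
-/
import Cfsg.Agent.EqLemmas

set_option autoImplicit false
open scoped commutatorElement

namespace Cfsg.Agent.FunctorControl

variable {p : ℕ}

theorem geom_sum_sub_pow [Fact p.Prime] :
    ∃ Q : Polynomial ℤ, (∑ i ∈ Finset.range p, Polynomial.X ^ i) - (Polynomial.X - 1) ^ (p - 1)
      = (p : Polynomial ℤ) * Q := by
  have hp : p.Prime := Fact.out
  set P : Polynomial ℤ :=
    (∑ i ∈ Finset.range p, Polynomial.X ^ i) - (Polynomial.X - 1) ^ (p - 1) with hP
  have h0 : P.map (Int.castRingHom (ZMod p)) = 0 := by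
    rw [hP]
    simp only [Polynomial.map_sub, Polynomial.map_pow, Polynomial.map_sum, Polynomial.map_X, Polynomial.map_one]
    have hne : (Polynomial.X - 1 : Polynomial (ZMod p)) ≠ 0 := by
      simpa using Polynomial.X_sub_C_ne_zero (1 : ZMod p)
    refine mul_left_cancel₀ hne ?_
    rw [mul_zero, mul_sub, mul_geom_sum, ← pow_succ', Nat.sub_add_cancel hp.one_lt.le, sub_pow_char, one_pow,
      sub_self]
  have hdvd : ∀ n, (p : ℤ) ∣ P.coeff n := fun n => by
    rw [← ZMod.intCast_zmod_eq_zero_iff_dvd]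
    have := congrArg (fun q => Polynomial.coeff q n) h0
    simpa [Polynomial.coeff_map] using this
  obtain ⟨Q, hQ⟩ := (Polynomial.C_dvd_iff_dvd_coeff (p : ℤ) P).2 hdvd
  exact ⟨Q, hQ.trans (by simp)⟩

theorem geom_sum_eq_zero_of_nilpotent [Fact p.Prime] {R : Type*} [Ring R] (hp : (p : R) = 0) (γ : R)
    (h : (γ - 1) ^ (p - 1) = 0) : ∑ i ∈ Finset.range p, γ ^ i = 0 := by
  obtain ⟨Q, hQ⟩ := geom_sum_sub_pow (p := p)
  have := congrArg (Polynomial.aeval γ) hQ
  simpa [hp, h, map_sum] using this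

/-- The norm of `g` on `U` vanishes modulo `V`, evaluated under any homomorphism to a commutative group. -/
theorem norm_eq_one [Fact p.Prime] {G C : Type*} [Group G] [CommGroup C] {U V : Subgroup G} [U.Normal] [V.Normal]
    (hab : ⁅U, U⁆ ≤ V) (hexp : ∀ u ∈ U, u ^ p ∈ V) {g : G}
    (hg : Cfsg.iterCommutator U (Subgroup.zpowers g) (p - 1) ≤ V) (ψ : ↥U →* C)
    (hψ : ∀ x : ↥U, (x : G) ∈ V → ψ x = 1) (u : ↥U) :
    ∏ i ∈ Finset.range p,
      ψ ⟨g ^ i * (u : G) * (g ^ i)⁻¹, Subgroup.Normal.conj_mem inferInstance _ u.2 _⟩ = 1 := by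
  set N := V.subgroupOf U with hN
  letI : CommGroup (↥U ⧸ N) :=
    { (inferInstance : Group (↥U ⧸ N)) with
      mul_comm := by
        intro a b
        obtain ⟨a, rfl⟩ := QuotientGroup.mk_surjective a
        obtain ⟨b, rfl⟩ := QuotientGroup.mk_surjective b
        rw [← QuotientGroup.mk_mul, ← QuotientGroup.mk_mul, QuotientGroup.eq]
        refine hab ?_
        have : ⁅((b : G))⁻¹, ((a : G))⁻¹⁆ ∈ ⁅U, U⁆ :=
          Subgroup.commutator_mem_commutator (inv_mem b.2) (inv_mem a.2)
        simpa [commutatorElement_def, mul_assoc] using this }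
  -- the conjugation by `g`
  let c : ↥U →* ↥U :=
    { toFun := fun x => ⟨g * x * g⁻¹, Subgroup.Normal.conj_mem inferInstance _ x.2 g⟩
      map_one' := by ext; simp
      map_mul' := fun x y => by ext; simp }
  have hc : N ≤ N.comap c := fun x hx => Subgroup.Normal.conj_mem (inferInstance : V.Normal) _ hx g
  let γ : AddMonoid.End (Additive (↥U ⧸ N)) := (QuotientGroup.map N N c hc).toAdditive
  have hγ : ∀ (i : ℕ) (x : ↥U), (γ ^ i) (Additive.ofMul (QuotientGroup.mk x)) =
      Additive.ofMul (QuotientGroup.mk (⟨g ^ i * x * (g ^ i)⁻¹,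
        Subgroup.Normal.conj_mem inferInstance _ x.2 _⟩ : ↥U)) := by
    intro i
    induction i with
    | zero => intro x; simp
    | succ i ih =>
      intro x
      rw [pow_succ', AddMonoid.End.coe_mul, Function.comp_apply, ih]
      show Additive.ofMul (QuotientGroup.mk (c _)) = _
      congr 2
      ext
      show g * (g ^ i * x * (g ^ i)⁻¹) * g⁻¹ = _
      rw [pow_succ']
      group
  have hp0 : (p : AddMonoid.End (Additive (↥U ⧸ N))) = 0 := by
    refine AddMonoidHom.ext fun x => ?_
    obtain ⟨x, rfl⟩ := Additive.ofMul.surjective x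
    obtain ⟨x, rfl⟩ := QuotientGroup.mk_surjective x
    rw [← nsmul_one]
    show Additive.ofMul ((QuotientGroup.mk x : ↥U ⧸ N) ^ p) = Additive.ofMul 1
    rw [← QuotientGroup.mk_pow, (QuotientGroup.eq_one_iff _).2]
    exact hexp x x.2
  have hnil : ∀ (k : ℕ) (x : ↥U), ∃ y : ↥U, (y : G) ∈ Cfsg.iterCommutator U (Subgroup.zpowers g) k ∧
      ((γ - 1) ^ k) (Additive.ofMul (QuotientGroup.mk x)) = Additive.ofMul (QuotientGroup.mk y) := by
    intro k
    induction k with
    | zero => intro x; exact ⟨x, x.2, by simp⟩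
    | succ k ih =>
      intro x
      obtain ⟨y, hy, hye⟩ := ih x
      refine ⟨c y * y⁻¹, ?_, ?_⟩
      · show g * y * g⁻¹ * (y : G)⁻¹ ∈ ⁅Cfsg.iterCommutator U (Subgroup.zpowers g) k, Subgroup.zpowers g⁆
        have := inv_mem (Subgroup.commutator_mem_commutator hy (Subgroup.mem_zpowers g))
        simpa [commutatorElement_def, mul_assoc] using this
      · rw [pow_succ', AddMonoid.End.coe_mul, Function.comp_apply, hye]
        show Additive.ofMul (QuotientGroup.mk (c y) : ↥U ⧸ N) - Additive.ofMul (QuotientGroup.mk y) = _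
        rw [← ofMul_div, div_eq_mul_inv, ← QuotientGroup.mk_inv, ← QuotientGroup.mk_mul]
  have hnil' : (γ - 1) ^ (p - 1) = 0 := by
    refine AddMonoidHom.ext fun x => ?_
    obtain ⟨x, rfl⟩ := Additive.ofMul.surjective x
    obtain ⟨x, rfl⟩ := QuotientGroup.mk_surjective x
    obtain ⟨y, hy, hye⟩ := hnil (p - 1) x
    refine hye.trans ?_
    show Additive.ofMul _ = Additive.ofMul 1
    rw [(QuotientGroup.eq_one_iff y).2 (hg hy)]
  have key : ∀ (n : ℕ), (∑ i ∈ Finset.range n, γ ^ i) (Additive.ofMul (QuotientGroup.mk u)) =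
      Additive.ofMul (∏ i ∈ Finset.range n, (QuotientGroup.mk (⟨g ^ i * (u : G) * (g ^ i)⁻¹,
        Subgroup.Normal.conj_mem inferInstance _ u.2 _⟩ : ↥U) : ↥U ⧸ N)) := by
    intro n
    induction n with
    | zero => simp
    | succ n ih =>
      rw [Finset.sum_range_succ, Finset.prod_range_succ, ofMul_mul, ← ih, ← hγ]
      rfl
  have h1 := key p
  rw [geom_sum_eq_zero_of_nilpotent hp0 γ hnil'] at h1
  have h2 : (∏ i ∈ Finset.range p, (QuotientGroup.mk (⟨g ^ i * (u : G) * (g ^ i)⁻¹,
      Subgroup.Normal.conj_mem inferInstance _ u.2 _⟩ : ↥U) : ↥U ⧸ N)) = 1 := Additive.ofMul.injective h1.symm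
  have h3 := congrArg (QuotientGroup.lift N ψ fun x hx => hψ x hx) h2
  rw [map_prod, map_one] at h3
  exact h3

/-- Cancellation of products over a set acted on by a `p`-group generated by good elements. -/
theorem prod_eq_of_good_generators [Fact p.Prime] {P X C : Type*} [Group P] [Finite P] (hP : IsPGroup p P)
    [MulAction P X] [Fintype X] [DecidableEq X] [CommGroup C] (F : X → C) {gen : Set P}
    (hgen : Subgroup.closure gen = ⊤) (hF : ∀ g ∈ gen, ∀ x : X, ∏ i ∈ Finset.range p, F (g ^ i • x) = 1)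
    (x₀ : X) (hx₀ : ∀ x : X, x ∈ MulAction.fixedPoints P X ↔ x = x₀) :
    ∏ x : X, F x = F x₀ := by
  classical
  have hp : p.Prime := Fact.out
  haveI : Group.IsNilpotent P := hP.isNilpotent
  rw [← Finset.prod_fiberwise Finset.univ (fun x : X => (⟦x⟧ : MulAction.orbitRel.Quotient P X)) F,
    Finset.prod_eq_single (⟦x₀⟧ : MulAction.orbitRel.Quotient P X)]
  · rw [Finset.prod_eq_single x₀ _ (by simp)]
    intro x hx hne
    simp only [Finset.mem_filter, Finset.mem_univ, true_and] at hx
    obtain ⟨h, rfl⟩ : x ∈ MulAction.orbit P x₀ := Quotient.exact hx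
    exact absurd (((hx₀ x₀).2 rfl) h) hne
  · intro ω _ hω
    obtain ⟨x₁, rfl⟩ := Quotient.exists_rep ω
    have hne : MulAction.stabilizer P x₁ ≠ ⊤ := by
      intro e
      refine hω ?_
      rw [(hx₀ x₁).1 fun h => (e ▸ Subgroup.mem_top h : h ∈ MulAction.stabilizer P x₁)]
    obtain ⟨R, hR, hle⟩ := (eq_top_or_exists_le_coatom (MulAction.stabilizer P x₁)).resolve_left hne
    haveI : R.Normal := Subgroup.NormalizerCondition.normal_of_coatom _ Group.normalizerCondition_of_isNilpotent hR
    obtain ⟨g, hg, hgR⟩ : ∃ g ∈ gen, g ∉ R := by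
      by_contra hno
      push Not at hno
      exact hR.1 (top_le_iff.1 (hgen ▸ (Subgroup.closure_le R).2 hno))
    set θ : P ⧸ R := QuotientGroup.mk' R g with hθ
    have hsimple : ∀ H : Subgroup (P ⧸ R), H ≠ ⊥ → H = ⊤ := by
      intro H hH
      have hle' : R ≤ H.comap (QuotientGroup.mk' R) := (QuotientGroup.ker_mk' R).symm.le.trans (Subgroup.ker_le_comap _ _)
      rcases hle'.lt_or_eq with h | h
      · rw [← Subgroup.map_comap_eq_self_of_surjective (QuotientGroup.mk'_surjective R) H, hR.2 _ h,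
          ← MonoidHom.range_eq_map, MonoidHom.range_eq_top.2 (QuotientGroup.mk'_surjective R)]
      · exact absurd (by rw [← Subgroup.map_comap_eq_self_of_surjective (QuotientGroup.mk'_surjective R) H,
          ← h, QuotientGroup.map_mk'_self]) hH
    have hθ1 : θ ≠ 1 := fun e => hgR ((QuotientGroup.eq_one_iff g).1 e)
    have htop : Subgroup.zpowers θ = ⊤ := hsimple _ fun e => hθ1 (Subgroup.zpowers_eq_bot.1 e)
    have hord : orderOf θ = p := by
      obtain ⟨k, hk⟩ := IsPGroup.iff_orderOf.1 (hP.to_quotient R) θ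
      obtain ⟨k, rfl⟩ : ∃ m, k = m + 1 := by
        cases k with
        | zero => exact absurd (orderOf_eq_one_iff.1 (by simpa using hk)) hθ1
        | succ m => exact ⟨m, rfl⟩
      by_contra hne'
      have h2 : orderOf (θ ^ p ^ k) = p := by
        rw [orderOf_pow_of_dvd (pow_ne_zero k hp.ne_zero) (hk ▸ pow_dvd_pow p k.le_succ), hk, pow_succ,
          Nat.mul_div_cancel_left _ (pow_pos hp.pos k)]
      have h3 := hsimple (Subgroup.zpowers (θ ^ p ^ k)) fun e => by
        rw [Subgroup.zpowers_eq_bot] at e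
        rw [e, orderOf_one] at h2
        exact hp.one_lt.ne' h2.symm
      have h4 := congrArg (fun H : Subgroup (P ⧸ R) => Nat.card H) h3
      simp only [Nat.card_zpowers, h2] at h4
      rw [← htop, Nat.card_zpowers] at h4
      exact hne' h4.symm
    let Ω := MulAction.orbit P x₁
    let χ : Ω → P ⧸ R := fun y =>
      Quotient.map' id (fun a b hab => by
        rw [QuotientGroup.leftRel_apply] at hab ⊢
        exact hle hab) (MulAction.orbitEquivQuotientStabilizer P x₁ y)
    have hχ : ∀ h : P, χ ⟨h • x₁, h, rfl⟩ = QuotientGroup.mk' R h := by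
      intro h
      have : MulAction.orbitEquivQuotientStabilizer P x₁ ⟨h • x₁, h, rfl⟩ = (QuotientGroup.mk h : P ⧸ _) := by
        rw [Equiv.apply_eq_iff_eq_symm_apply]
        exact Subtype.ext (MulAction.orbitEquivQuotientStabilizer_symm_apply P x₁ h).symm
      show Quotient.map' id _ (MulAction.orbitEquivQuotientStabilizer P x₁ ⟨h • x₁, h, rfl⟩) = _
      rw [this]
      rfl
    have hχg : ∀ (i : ℕ) (y : Ω), χ ⟨g ^ i • (y : X), by
        obtain ⟨h, hh⟩ := y.2
        exact ⟨g ^ i * h, by rw [← hh]; exact mul_smul _ _ _⟩⟩ = θ ^ i * χ y := by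
      rintro i ⟨_, h, rfl⟩
      have e1 : (g ^ i • h • x₁) = (g ^ i * h) • x₁ := (mul_smul _ _ _).symm
      simp only [e1, hχ, map_mul, map_pow, hθ]
    -- the two sides as products over the base fibre
    let Fib := {y : Ω // χ y = 1}
    let Φ : Fin p × Fib → Ω := fun iy => ⟨g ^ (iy.1 : ℕ) • ((iy.2 : Ω) : X), by
        obtain ⟨h, hh⟩ := (iy.2 : Ω).2
        exact ⟨g ^ (iy.1 : ℕ) * h, by rw [← hh]; exact mul_smul _ _ _⟩⟩
    have hΦ : Function.Bijective Φ := by
      constructor
      · rintro ⟨i, ⟨y, hy⟩⟩ ⟨j, ⟨z, hz⟩⟩ e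
        have h1 := congrArg χ e
        simp only [Φ, hχg, hy, hz, mul_one] at h1
        have hij : i = j := Fin.ext (pow_injOn_Iio_orderOf (by simp [hord]) (by simp [hord]) h1)
        subst hij
        have h2 := congrArg (fun w : Ω => (w : X)) e
        simp only [Φ, smul_left_cancel_iff] at h2
        exact Prod.ext rfl (Subtype.ext (Subtype.ext h2))
      · intro y
        have hy : χ y ∈ Subgroup.zpowers θ := htop ▸ Subgroup.mem_top _
        rw [mem_zpowers_iff_mem_range_orderOf] at hy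
        obtain ⟨i, hi, hie⟩ := Finset.mem_image.1 hy
        rw [Finset.mem_range, hord] at hi
        -- move back by `g ^ (p - i)`
        have hmem : g ^ (p - i) • ((y : X)) ∈ MulAction.orbit P x₁ := by
          obtain ⟨h, hh⟩ := y.2
          exact ⟨g ^ (p - i) * h, by rw [← hh]; exact mul_smul _ _ _⟩
        have hfib : χ ⟨_, hmem⟩ = 1 := by
          rw [hχg (p - i) y, ← hie, ← pow_add, Nat.sub_add_cancel hi.le, ← hord, pow_orderOf_eq_one]
        have hback : g⁻¹ ^ (p - i) • (g ^ (p - i) • (y : X)) = (y : X) := by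
          rw [inv_pow, inv_smul_smul]
        refine ⟨⟨⟨i, hi⟩, ⟨⟨(g ^ i)⁻¹ • (y : X), by
          obtain ⟨h, hh⟩ := y.2
          exact ⟨(g ^ i)⁻¹ * h, by rw [← hh]; exact mul_smul _ _ _⟩⟩, ?_⟩⟩, Subtype.ext (smul_inv_smul _ _)⟩
        have h1 := hχg i ⟨(g ^ i)⁻¹ • (y : X), by
          obtain ⟨h, hh⟩ := y.2
          exact ⟨(g ^ i)⁻¹ * h, by rw [← hh]; exact mul_smul _ _ _⟩⟩
        simp only [smul_inv_smul] at h1
        rw [← hie] at h1
        exact mul_eq_left.1 h1.symm
    haveI : Fintype Fib := Fintype.ofFinite _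
    have hsum : ∏ x ∈ Finset.univ.filter (fun x : X => (⟦x⟧ : MulAction.orbitRel.Quotient P X) = ⟦x₁⟧), F x
        = ∏ y : Ω, F y := by
      refine Finset.prod_subtype _ (fun x => ?_) F
      simp only [Finset.mem_filter, Finset.mem_univ, true_and]
      exact Quotient.eq
    rw [hsum, ← hΦ.prod_comp (fun y : Ω => F y), Fintype.prod_prod_type_right]
    refine Finset.prod_eq_one fun y _ => ?_
    rw [← hF g hg ((y : Ω) : X), ← Fin.prod_univ_eq_prod_range]
  · intro h
    exact absurd (Finset.mem_univ _) h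

end Cfsg.Agent.FunctorControl
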