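/-
Minimal failure of transfer control: the maximal subgroup over `S` and the absence of Engel elements.

Main results (namespace `Cfsg.Agent.FunctorControl`): `norm_argument`, `TransferMin.le_M`, `TransferMin.M_ne_top`,
`TransferMin.commutator_le`, `TransferMin.no_engel`.
-/
import Cfsg.Agent.Lib.FunctorControl.Minimal
import Cfsg.Agent.Lib.FunctorControl.Norm
import Cfsg.Agent.Lib.KInfinity.Chief

set_option autoImplicit false
open Cfsg
open scoped commutatorElement

namespace Cfsg.Agent.FunctorControl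

universe u

variable {G : Type u} [Group G] {p : ℕ}

theorem pow_mem_of_chief [Finite G] [Fact p.Prime] {U N : Subgroup G} (h : IsChiefFactor U N) (hUp : IsPGroup p U)
    (hab : ⁅U, U⁆ ≤ N) : ∀ u ∈ U, u ^ p ∈ N := by
  obtain ⟨hlt, hUn, hNn, hmax⟩ := h
  haveI := hUn
  haveI := hNn
  set q := QuotientGroup.mk' N with hq
  have hcomm : ∀ a ∈ U, ∀ b ∈ U, Commute (q a) (q b) := fun a ha b hb => by
    rw [← commutatorElement_eq_one_iff_commute, ← map_commutatorElement]
    exact (QuotientGroup.eq_one_iff _).2 (hab (Subgroup.commutator_mem_commutator ha hb))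
  have hq1 : ∀ a, q a = 1 ↔ a ∈ N := fun a => QuotientGroup.eq_one_iff a
  let K : Subgroup G :=
    { carrier := {u | u ∈ U ∧ u ^ p ∈ N}
      one_mem' := ⟨one_mem _, by simp⟩
      mul_mem' := fun {a b} ha hb => ⟨mul_mem ha.1 hb.1, by
        rw [← hq1, map_pow, map_mul, (hcomm a ha.1 b hb.1).mul_pow, ← map_pow, ← map_pow, (hq1 _).2 ha.2,
          (hq1 _).2 hb.2, one_mul]⟩
      inv_mem' := fun {a} ha => ⟨inv_mem ha.1, by rw [inv_pow]; exact inv_mem ha.2⟩ }
  have hKn : K.Normal := ⟨fun x hx g => ⟨hUn.conj_mem x hx.1 g, by rw [conj_pow]; exact hNn.conj_mem _ hx.2 g⟩⟩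
  have hNK : N ≤ K := fun x hx => ⟨hlt.le hx, pow_mem hx p⟩
  rcases hmax K hKn hNK (fun x hx => hx.1) with hK | hK
  · exfalso
    obtain ⟨u, huU, huN⟩ := SetLike.not_le_iff_exists.1 hlt.not_ge
    obtain ⟨k, hk⟩ := hUp ⟨u, huU⟩
    have hk' : u ^ p ^ k = 1 := by simpa using congrArg Subtype.val hk
    have key : ∀ j, u ^ p ^ j ∈ N → u ∈ N := by
      intro j
      induction j with
      | zero => intro h; simpa using h
      | succ j ih =>
        intro h
        refine ih (hK.le ⟨pow_mem huU _, ?_⟩)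
        rwa [← pow_mul, ← pow_succ]
    exact huN (key k (hk' ▸ one_mem N))
  · exact fun u hu => (hK.ge hu).2

/-- The norm argument: a chief factor `U/N` cannot have its generators killed by the transfer. -/
theorem norm_argument [Finite G] [Fact p.Prime] (S : Sylow p G) {M Q V U N : Subgroup G}
    (hSM : (S : Subgroup G) ≤ M) [hQn : Q.Normal] (hQp : IsPGroup p Q)
    (hQM : ⁅Q, M⁆ ≤ V) (hQQ : ⁅Q, Q⁆ ≤ V) (hchief : IsChiefFactor U N) (hUQ : U ≤ Q) (hNV : N ≤ V)
    (hUQG : U ≤ ⁅Q, (⊤ : Subgroup G)⁆ ⊔ N)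
    {D : Subgroup G} (hDS : D ≤ (S : Subgroup G)) {gen : Set G} (hgen : Subgroup.closure gen = D)
    (hgood : ∀ g ∈ gen, iterCommutator U (Subgroup.zpowers g) (p - 1) ≤ N)
    (hfix : ∀ b : G, (∀ d ∈ D, b⁻¹ * d * b ∈ M) → b ∈ M) : U ≤ V := by
  classical
  obtain ⟨hlt, hUn, hNn, hmax⟩ := hchief
  haveI := hUn
  haveI := hNn
  set VQ := V.subgroupOf Q with hVQ
  haveI hVQn : VQ.Normal := ⟨fun x hx g => by
    have h1 : ((g * x * g⁻¹ : ↥Q) : G) = ⁅(g : G), (x : G)⁆ * x := by simp [commutatorElement_def]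
    show ((g * x * g⁻¹ : ↥Q) : G) ∈ V
    rw [h1]
    exact mul_mem (hQQ (Subgroup.commutator_mem_commutator g.2 x.2)) hx⟩
  letI : CommGroup (↥Q ⧸ VQ) :=
    { (inferInstance : Group (↥Q ⧸ VQ)) with
      mul_comm := by
        intro a b
        obtain ⟨a, rfl⟩ := QuotientGroup.mk_surjective a
        obtain ⟨b, rfl⟩ := QuotientGroup.mk_surjective b
        rw [← QuotientGroup.mk_mul, ← QuotientGroup.mk_mul, QuotientGroup.eq]
        refine hQQ ?_
        have : ⁅((b : G))⁻¹, ((a : G))⁻¹⁆ ∈ ⁅Q, Q⁆ :=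
          Subgroup.commutator_mem_commutator (inv_mem b.2) (inv_mem a.2)
        simpa [commutatorElement_def, mul_assoc] using this }
  let cQ : G → ↥Q →* ↥Q := fun b =>
    { toFun := fun x => ⟨b⁻¹ * x * b, by simpa using hQn.conj_mem _ x.2 b⁻¹⟩
      map_one' := by ext; simp
      map_mul' := fun x y => by ext; simp [mul_assoc] }
  let φ : ↥Q →* ↥Q ⧸ VQ := QuotientGroup.mk' VQ
  have hwd : ∀ (q : ↥Q) (a b : G), a⁻¹ * b ∈ M → φ (cQ a q) = φ (cQ b q) := by
    intro q a b hab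
    refine (QuotientGroup.eq.2 ?_)
    show ((cQ a q : ↥Q) : G)⁻¹ * (cQ b q : ↥Q) ∈ V
    have : ⁅((cQ a q : ↥Q) : G)⁻¹, (a⁻¹ * b)⁻¹⁆ ∈ V :=
      hQM (Subgroup.commutator_mem_commutator (inv_mem (cQ a q).2) (inv_mem hab))
    simpa [cQ, commutatorElement_def, mul_assoc] using this
  let Fq : ↥Q → G ⧸ M → ↥Q ⧸ VQ := fun q =>
    Quotient.lift (fun b => φ (cQ b q)) fun a b hab => hwd q a b (QuotientGroup.leftRel_apply.1 hab)
  have hFq : ∀ (q : ↥Q) (b : G), Fq q (QuotientGroup.mk b) = φ (cQ b q) := fun _ _ => rfl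
  haveI : Fintype (G ⧸ M) := Fintype.ofFinite _
  let T : ↥Q →* ↥Q ⧸ VQ :=
    { toFun := fun q => ∏ y : G ⧸ M, Fq q y
      map_one' := Finset.prod_eq_one fun y _ => by
        obtain ⟨b, rfl⟩ := QuotientGroup.mk_surjective y
        rw [hFq, map_one, map_one]
      map_mul' := fun x y => by
        rw [← Finset.prod_mul_distrib]
        refine Finset.prod_congr rfl fun z _ => ?_
        obtain ⟨b, rfl⟩ := QuotientGroup.mk_surjective z
        rw [hFq, hFq, hFq, map_mul, map_mul] }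
  have hTN : ∀ x : ↥Q, (x : G) ∈ N → T x = 1 := fun x hx => Finset.prod_eq_one fun y _ => by
    obtain ⟨b, rfl⟩ := QuotientGroup.mk_surjective y
    rw [hFq]
    exact (QuotientGroup.eq_one_iff _).2 (hNV (by simpa [cQ] using hNn.conj_mem _ hx b⁻¹))
  have hTconj : ∀ (g : G) (q : ↥Q), T ⟨g * q * g⁻¹, hQn.conj_mem _ q.2 g⟩ = T q := by
    intro g q
    refine Fintype.prod_equiv (MulAction.toPerm g⁻¹) _ _ fun y => ?_
    obtain ⟨b, rfl⟩ := QuotientGroup.mk_surjective y
    show φ (cQ b ⟨g * q * g⁻¹, _⟩) = φ (cQ (g⁻¹ * b) q)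
    congr 1
    ext
    simp [cQ, mul_assoc]
  have hTker : ⁅Q, (⊤ : Subgroup G)⁆ ⊔ N ≤ T.ker.map Q.subtype := by
    refine sup_le (Subgroup.commutator_le.2 fun q hq g _ => ?_) fun x hx => ?_
    · refine ⟨⟨q, hq⟩ * ⟨g * q⁻¹ * g⁻¹, hQn.conj_mem _ (inv_mem hq) g⟩, ?_, ?_⟩
      · show T _ = 1
        rw [map_mul]
        have h1 := hTconj g (⟨q, hq⟩⁻¹ : ↥Q)
        rw [map_inv] at h1
        exact mul_eq_one_iff_eq_inv.2 (by rw [← inv_inj] at h1; simpa using h1.symm)
      · simp [commutatorElement_def, mul_assoc]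
    · have hxQ : x ∈ Q := (hlt.le.trans hUQ) hx
      exact ⟨⟨x, hxQ⟩, hTN _ hx, rfl⟩
  have hab : ⁅U, U⁆ ≤ N := (Subgroup.commutator_mono le_rfl hUQ).trans
    (KInfinity.commutator_le_of_chief ⟨hlt, hUn, hNn, hmax⟩ (hQp.to_le hUQ) hQp)
  have hexp := pow_mem_of_chief ⟨hlt, hUn, hNn, hmax⟩ (hQp.to_le hUQ) hab
  intro u hu
  have hT1 : T ⟨u, hUQ hu⟩ = 1 := by
    obtain ⟨x, hx, hxu⟩ := hTker (hUQG hu)
    rw [show (⟨u, hUQ hu⟩ : ↥Q) = x from Subtype.ext hxu.symm]
    exact hx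
  -- the action of `D` on the cosets of `M`
  have key : ∏ y : G ⧸ M, Fq ⟨u, hUQ hu⟩ y = Fq ⟨u, hUQ hu⟩ (QuotientGroup.mk (1 : G)) := by
    refine prod_eq_of_good_generators (P := ↥D) (p := p) (S.isPGroup'.to_le hDS) _
      (gen := D.subtype ⁻¹' gen) ?_ ?_ _ ?_
    · subst hgen
      exact Subgroup.closure_closure_coe_preimage
    · intro g hg y
      obtain ⟨b, rfl⟩ := QuotientGroup.mk_surjective y
      let ψ : ↥U →* ↥Q ⧸ VQ := (φ.comp (cQ b)).comp (Subgroup.inclusion hUQ)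
      have hn := norm_eq_one (p := p) hab hexp (g := (g : G)⁻¹)
        (by rw [Subgroup.zpowers_inv]; exact hgood g hg) ψ
        (fun x hx => (QuotientGroup.eq_one_iff _).2 (hNV (by simpa [cQ] using hNn.conj_mem _ hx b⁻¹))) ⟨u, hu⟩
      refine Eq.trans (Finset.prod_congr rfl fun i _ => ?_) hn
      show φ (cQ (((g ^ i : ↥D) : G) * b) ⟨u, hUQ hu⟩) = φ (cQ b _)
      congr 1
      ext
      simp [cQ, mul_assoc]
    · intro y
      constructor
      · intro hy
        obtain ⟨b, rfl⟩ := QuotientGroup.mk_surjective y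
        refine QuotientGroup.eq.2 ?_
        rw [mul_one]
        refine inv_mem (hfix b fun d hd => ?_)
        have := QuotientGroup.eq.1 (hy ⟨d, hd⟩).symm
        simpa [mul_assoc] using this
      · rintro rfl d
        refine (QuotientGroup.eq.2 ?_).symm
        have hd : (d : G) ∈ M := hSM (hDS d.2)
        simpa using hd
  have h2 : φ (cQ 1 ⟨u, hUQ hu⟩) = 1 := by
    rw [← hFq, ← key]
    exact hT1
  simpa [cQ, φ, hVQ, Subgroup.mem_subgroupOf] using (QuotientGroup.eq_one_iff _).1 h2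

variable {𝓦 : Set (∀ (Q : Type u) [Group Q], Subgroup Q)}

namespace TransferMin

variable [Finite G] [Fact p.Prime] {S : Sylow p G}

theorem not_normal (h : TransferMin p 𝓦 S) (hne : 𝓦.Nonempty) : ¬ (S : Subgroup G).Normal := by
  intro hn
  haveI := hn
  obtain ⟨W, hW⟩ := hne
  refine h.fail ((controlsTransfer_iff h.char S).2 ?_)
  haveI := inducedFunctor_normal (h.char W hW) (P := (S : Subgroup G)) S.isPGroup'
  refine le_trans ?_ (le_iSup₂ (f := fun W (_ : W ∈ 𝓦) => (S : Subgroup G) ⊓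
    ⁅Subgroup.normalizer ((inducedFunctor W (S : Subgroup G) : Subgroup G) : Set G),
      Subgroup.normalizer ((inducedFunctor W (S : Subgroup G) : Subgroup G) : Set G)⁆) W hW)
  rw [Subgroup.normalizer_eq_top (H := inducedFunctor W (S : Subgroup G))]

theorem sylow_ne_top (h : TransferMin p 𝓦 S) (hne : 𝓦.Nonempty) : (S : Subgroup G) ≠ ⊤ := fun e =>
  h.not_normal hne (by rw [e]; infer_instance)

/-- Every proper subgroup containing `S` normalizes `F ⊓ O_p(G)`. -/
theorem le_M (h : TransferMin p 𝓦 S) {H : Subgroup G} (hSH : (S : Subgroup G) ≤ H) (hH : H ≠ ⊤) :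
    H ≤ Subgroup.normalizer ((focalF 𝓦 (S : Subgroup G) ⊓ pCore p G : Subgroup G) : Set G) := by
  have hQS : pCore p G ≤ (S : Subgroup G) := Cores.pCore_le_sylow S
  refine Subgroup.le_normalizer_iff.2 fun x hx v hv => ?_
  have h1 : ⁅x, v⁆ ∈ focalF 𝓦 (S : Subgroup G) ⊓ pCore p G := by
    have hQ : ⁅x, v⁆ ∈ pCore p G := Subgroup.commutator_le_right ⊤ (pCore p G)
      (Subgroup.commutator_mem_commutator (Subgroup.mem_top x) hv.2)
    exact ⟨h.inf_derived_le hSH hH ⟨hQS hQ, Subgroup.commutator_mem_commutator hx (hSH (hQS hv.2))⟩, hQ⟩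
  simpa [commutatorElement_def, mul_assoc] using Subgroup.mul_mem _ h1 hv

theorem sylow_le_M (h : TransferMin p 𝓦 S) (hne : 𝓦.Nonempty) :
    (S : Subgroup G) ≤ Subgroup.normalizer ((focalF 𝓦 (S : Subgroup G) ⊓ pCore p G : Subgroup G) : Set G) :=
  h.le_M le_rfl (h.sylow_ne_top hne)

theorem M_ne_top (h : TransferMin p 𝓦 S) (hne : 𝓦.Nonempty) :
    Subgroup.normalizer ((focalF 𝓦 (S : Subgroup G) ⊓ pCore p G : Subgroup G) : Set G) ≠ ⊤ := by
  intro e
  set Q := pCore p G with hQdef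
  set V := focalF 𝓦 (S : Subgroup G) ⊓ Q with hVdef
  haveI hVn : V.Normal := Subgroup.normalizer_eq_top_iff.1 e
  haveI hQn : Q.Normal := Cores.pCore_normal p G
  have hQS : Q ≤ (S : Subgroup G) := Cores.pCore_le_sylow S
  haveI := KInfinity.centMod_normal Q V
  have hN : Subgroup.normalizer ((S : Subgroup G) : Set G) ≠ ⊤ := fun e' =>
    h.not_normal hne (Subgroup.normalizer_eq_top_iff.1 e')
  have hSC : (S : Subgroup G) ≤ KInfinity.centMod Q V := fun s hs => KInfinity.mem_centMod.2 fun a ha =>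
    ⟨h.inf_derived_le le_rfl (h.sylow_ne_top hne)
      ⟨(S : Subgroup G).mul_mem ((S : Subgroup G).mul_mem ((S : Subgroup G).mul_mem (hQS ha) hs)
        ((S : Subgroup G).inv_mem (hQS ha))) ((S : Subgroup G).inv_mem hs),
        Subgroup.commutator_mem_commutator (hQS ha) hs⟩,
      Subgroup.commutator_le_left Q ⊤ (Subgroup.commutator_mem_commutator ha (Subgroup.mem_top s))⟩
  have hNC : Subgroup.normalizer ((S : Subgroup G) : Set G) ≤ KInfinity.centMod Q V := fun s hs =>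
    KInfinity.mem_centMod.2 fun a ha => by
      have hQa : ⁅a, s⁆ ∈ Q :=
        Subgroup.commutator_le_left Q ⊤ (Subgroup.commutator_mem_commutator ha (Subgroup.mem_top s))
      exact ⟨h.inf_derived_le Subgroup.le_normalizer hN
        ⟨hQS hQa, Subgroup.commutator_mem_commutator (Subgroup.le_normalizer (hQS ha)) hs⟩, hQa⟩
  have htop : KInfinity.centMod Q V = ⊤ := by
    rw [eq_top_iff, ← Sylow.normalizer_sup_eq_top' S hSC]
    exact sup_le hNC le_rfl
  refine h.not_commutator_pCore_le (h.sylow_ne_top hne) (Subgroup.commutator_le.2 fun a ha g _ => ?_)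
  exact (KInfinity.mem_centMod.1 (htop ▸ Subgroup.mem_top g : g ∈ KInfinity.centMod Q V) a ha).1

theorem commutator_le (h : TransferMin p 𝓦 S) (hne : 𝓦.Nonempty) :
    ⁅pCore p G, Subgroup.normalizer ((focalF 𝓦 (S : Subgroup G) ⊓ pCore p G : Subgroup G) : Set G)⁆ ≤
      pCore p G ⊓ ⁅Subgroup.normalizer ((focalF 𝓦 (S : Subgroup G) ⊓ pCore p G : Subgroup G) : Set G),
        Subgroup.normalizer ((focalF 𝓦 (S : Subgroup G) ⊓ pCore p G : Subgroup G) : Set G)⁆ ∧
    pCore p G ⊓ ⁅Subgroup.normalizer ((focalF 𝓦 (S : Subgroup G) ⊓ pCore p G : Subgroup G) : Set G),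
        Subgroup.normalizer ((focalF 𝓦 (S : Subgroup G) ⊓ pCore p G : Subgroup G) : Set G)⁆ ≤
      pCore p G ⊓ focalF 𝓦 (S : Subgroup G) := by
  have hQS : pCore p G ≤ (S : Subgroup G) := Cores.pCore_le_sylow S
  refine ⟨le_inf (Subgroup.commutator_le_left _ _)
    (Subgroup.commutator_mono (hQS.trans (h.sylow_le_M hne)) le_rfl), le_inf inf_le_left ?_⟩
  exact (inf_le_inf_right _ hQS).trans (h.inf_derived_le (h.sylow_le_M hne) (h.M_ne_top hne))

theorem no_engel (h : TransferMin p 𝓦 S) (hne : 𝓦.Nonempty) {u : G} (hu : u ∈ (S : Subgroup G))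
    (huQ : u ∉ pCore p G) :
    ∃ U V : Subgroup G, IsChiefFactor U V ∧ U ≤ pCore p G ∧
      ¬ iterCommutator U (Subgroup.zpowers u) (p - 1) ≤ V := by
  by_contra hno
  push Not at hno
  set Q := pCore p G with hQdef
  haveI hQn : Q.Normal := Cores.pCore_normal p G
  have hQp : IsPGroup p Q := Cores.isPGroup_pCore p G
  set F := focalF 𝓦 (S : Subgroup G)
  set M := Subgroup.normalizer ((F ⊓ Q : Subgroup G) : Set G)
  have hSM : (S : Subgroup G) ≤ M := h.sylow_le_M hne
  have hQS : Q ≤ (S : Subgroup G) := Cores.pCore_le_sylow S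
  obtain ⟨h1, h2⟩ := h.commutator_le hne
  have hQM : ⁅Q, M⁆ ≤ F ⊓ Q := (h1.trans h2).trans (inf_comm _ _).le
  set N := (F ⊓ Q).normalCore with hNdef
  haveI hNn : N.Normal := Subgroup.normalCore_normal _
  have hNV : N ≤ F ⊓ Q := Subgroup.normalCore_le _
  set L := ⁅Q, (⊤ : Subgroup G)⁆ ⊔ N
  have hLn : L.Normal := Subgroup.sup_normal _ _
  have hNL : N < L := lt_of_le_of_ne le_sup_right fun e =>
    h.not_commutator_pCore_le (h.sylow_ne_top hne)
      ((le_sup_left.trans e.ge).trans (hNV.trans inf_le_left))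
  obtain ⟨U, hUL, hUmin⟩ := Finite.exists_le_minimal (α := Subgroup G)
    (p := fun U => U.Normal ∧ N < U ∧ U ≤ L) (a := L) ⟨hLn, hNL, le_rfl⟩
  obtain ⟨hUn, hNU, hUL'⟩ := hUmin.prop
  have hchief : IsChiefFactor U N := ⟨hNU, hUn, hNn, fun X hX h1 h2 => by
    rcases h1.lt_or_eq with h3 | h3
    · exact Or.inr (le_antisymm h2 (hUmin.2 ⟨hX, h3, h2.trans hUL'⟩ h2))
    · exact Or.inl h3.symm⟩
  have hUQ : U ≤ Q := hUL'.trans (sup_le (Subgroup.commutator_le_left Q _) (hNV.trans inf_le_right))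
  set gen : Set G := {g | g ∈ (S : Subgroup G) ∧ ∀ A B : Subgroup G, IsChiefFactor A B → A ≤ Q →
    iterCommutator A (Subgroup.zpowers g) (p - 1) ≤ B} with hgendef
  set D := Subgroup.closure gen with hDdef
  have hDS : D ≤ (S : Subgroup G) := (Subgroup.closure_le _).2 fun g hg => hg.1
  have hgconj : ∀ g, (∀ A B : Subgroup G, IsChiefFactor A B → A ≤ Q →
      iterCommutator A (Subgroup.zpowers g) (p - 1) ≤ B) → ∀ x : G, ∀ A B : Subgroup G, IsChiefFactor A B → A ≤ Q →
      iterCommutator A (Subgroup.zpowers (x * g * x⁻¹)) (p - 1) ≤ B := by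
    intro g hg x A B hAB hA
    haveI := hAB.2.1
    haveI := hAB.2.2.1
    have key : ∀ n, iterCommutator A (Subgroup.zpowers (x * g * x⁻¹)) n =
        (iterCommutator A (Subgroup.zpowers g) n).map (MulAut.conj x).toMonoidHom := by
      intro n
      induction n with
      | zero => exact (Subgroup.Normal.map_conj_eq A x).symm
      | succ n ih =>
        show ⁅_, _⁆ = (⁅_, _⁆ : Subgroup G).map _
        rw [ih, Subgroup.map_commutator, MonoidHom.map_zpowers]
        rfl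
    rw [key, ← Subgroup.Normal.map_conj_eq B x]
    exact Subgroup.map_mono (hg A B hAB hA)
  have hDN : (S : Subgroup G) ≤ Subgroup.normalizer (D : Set G) := by
    refine le_trans ?_ (Subgroup.normalizer_le_normalizer_closure gen)
    intro s hs
    have key : ∀ s ∈ (S : Subgroup G), ∀ g ∈ gen, s * g * s⁻¹ ∈ gen := fun s hs g hg =>
      ⟨(S : Subgroup G).mul_mem ((S : Subgroup G).mul_mem hs hg.1) ((S : Subgroup G).inv_mem hs), hgconj g hg.2 s⟩
    refine Subgroup.mem_set_normalizer_iff.2 fun g => ⟨key s hs g, fun hg => ?_⟩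
    simpa [mul_assoc] using key s⁻¹ ((S : Subgroup G).inv_mem hs) _ hg
  have hDM : Subgroup.normalizer (D : Set G) ≤ M := by
    refine h.le_M hDN fun e => huQ ?_
    exact Cores.le_pCore (Subgroup.normalizer_eq_top_iff.1 e) (S.isPGroup'.to_le hDS)
      (Subgroup.subset_closure ⟨hu, fun A B hAB hA => hno A B hAB hA⟩)
  have hfix : ∀ b : G, (∀ d ∈ D, b⁻¹ * d * b ∈ M) → b ∈ M := by
    intro b hb
    have hSy : Fusion.IsSylowIn p (S : Subgroup G) M := ⟨hSM, S.isPGroup', fun C a _ d => S.is_maximal' d a⟩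
    obtain ⟨m, hm, hmS⟩ := hSy.exists_conj_le (((S.isPGroup'.to_le hDS).map _) : IsPGroup p ↥(AlperinFamily.cj b⁻¹ D)) (by
      rintro _ ⟨d, hd, rfl⟩
      simpa using hb d hd)
    have hle : AlperinFamily.cj (m * b⁻¹) D ≤ D := by
      rw [Subgroup.map_le_iff_le_comap, hDdef, Subgroup.closure_le]
      intro g hg
      refine Subgroup.subset_closure ⟨?_, ?_⟩
      · have := hmS _ ⟨g, Subgroup.subset_closure hg, rfl⟩
        simpa [mul_assoc] using this
      · exact hgconj g hg.2 (m * b⁻¹)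
    have heq : AlperinFamily.cj (m * b⁻¹) D = D :=
      Subgroup.eq_of_le_of_card_ge hle (by rw [AlperinFamily.card_cj])
    have hmb : m * b⁻¹ ∈ M := hDM (AlperinFamily.cj_eq_iff.1 heq)
    have := M.mul_mem (M.inv_mem hm) hmb
    rw [inv_mul_cancel_left] at this
    simpa using M.inv_mem this
  have hQQ : ⁅Q, Q⁆ ≤ F ⊓ Q := le_inf (((Subgroup.commutator_mono hQS hQS)).trans
    (h.derived_sylow_le (h.sylow_ne_top hne))) (Subgroup.commutator_le_left Q Q)
  have hUV := norm_argument S hSM hQp hQM hQQ hchief hUQ hNV hUL' hDS hDdef.symm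
    (fun g hg => hg.2 U N hchief hUQ) hfix
  haveI := hUn
  exact hNU.not_ge (Subgroup.normal_le_normalCore.2 hUV)

end TransferMin

end Cfsg.Agent.FunctorControl
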