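/-
Control of transfer in all sections from the sections of characteristic `p`.

Main results (namespace `Cfsg.Agent.FunctorControl`): `controlsTransfer_induction`, `transferMin_of_sections`,
`controlsTransfer_of_engel`, `commutator_inf_eq`.
-/
import Cfsg.Agent.Lib.FunctorControl.Engel

set_option autoImplicit false
open Cfsg
open scoped commutatorElement

namespace Cfsg.Agent.FunctorControl

universe u

variable {G : Type u} [Group G] {p : ℕ} {𝓦 : Set (∀ (Q : Type u) [Group Q], Subgroup Q)}

theorem card_quotient_lt [Finite G] {N : Subgroup G} (hN : N ≠ ⊥) : Nat.card (G ⧸ N) < Nat.card G := by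
  rw [Subgroup.card_eq_card_quotient_mul_card_subgroup N]
  exact lt_mul_of_one_lt_right Nat.card_pos (Subgroup.one_lt_card_iff_ne_bot N |>.2 hN)

theorem card_lt_of_ne_top [Finite G] {H : Subgroup G} (hH : H ≠ ⊤) : Nat.card H < Nat.card G :=
  lt_of_le_of_ne (Subgroup.card_le_card_group H) fun e => hH (Subgroup.eq_top_of_card_eq H e)

theorem controlsTransfer_induction [Finite G] [Fact p.Prime] (h𝓦 : ∀ W ∈ 𝓦, IsCharPFunctor.{u} p W)
    (hstep : ∀ (X : Type u) [Group X] [Finite X], IsSec G X → ∀ S : Sylow p X, TransferMin p 𝓦 S → False)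
    (X : Type u) [Group X] [Finite X] (hX : IsSec G X) :
    FamilyControlsTransferIn p ((fun W => inducedFunctor (G := X) W) '' 𝓦) ⊤ := by
  suffices key : ∀ (n : ℕ) (X : Type u) [Group X] [Finite X], Nat.card X = n → IsSec G X →
      FamilyControlsTransferIn p ((fun W => inducedFunctor (G := X) W) '' 𝓦) ⊤ from key _ X rfl hX
  intro n
  induction n using Nat.strong_induction_on with
  | _ n ih =>
    intro X _ _ hn hX
    by_contra hfail
    obtain ⟨S⟩ : Nonempty (Sylow p X) := Sylow.nonempty
    refine hstep X hX S ⟨h𝓦, fun H hH => ?_, fun N _ hN => ?_, hfail⟩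
    · exact familyControlsTransferIn_subgroup h𝓦 H (ih _ (hn ▸ card_lt_of_ne_top hH) ↥H rfl (hX.subgroup H))
    · exact ih _ (hn ▸ card_quotient_lt hN) (X ⧸ N) rfl
        (hX.of_surjective (QuotientGroup.mk' N) (QuotientGroup.mk'_surjective N))

/-- The hypothesis "control in every section other than the group itself" gives `TransferMin`. -/
theorem transferMin_of_sections [Finite G] [Fact p.Prime] (h𝓦 : ∀ W ∈ 𝓦, IsCharPFunctor.{u} p W) (S : Sylow p G)
    (hsec : ∀ (K R : Subgroup G) [(R.subgroupOf K).Normal], (K = ⊤ → R ≠ ⊥) →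
      FamilyControlsTransferIn p ((fun W => inducedFunctor (G := (↥K ⧸ R.subgroupOf K)) W) '' 𝓦) ⊤)
    (hG : ¬ FamilyControlsTransferIn p ((fun W => inducedFunctor (G := G) W) '' 𝓦) ⊤) :
    TransferMin p 𝓦 S := by
  refine ⟨h𝓦, fun H hH => ?_, fun N hNn hN => ?_, hG⟩
  · haveI : ((⊥ : Subgroup G).subgroupOf H).Normal := by rw [Subgroup.bot_subgroupOf]; infer_instance
    exact familyControlsTransferIn_subgroup h𝓦 H (familyControlsTransferIn_equiv
      ((QuotientGroup.quotientMulEquivOfEq (Subgroup.bot_subgroupOf H)).trans QuotientGroup.quotientBot)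
      h𝓦 (hsec H ⊥ fun e => absurd e hH))
  · haveI : (N.subgroupOf (⊤ : Subgroup G)).Normal := inferInstance
    have e : ↥(⊤ : Subgroup G) ⧸ N.subgroupOf (⊤ : Subgroup G) ≃* G ⧸ N :=
      QuotientGroup.congr _ N Subgroup.topEquiv (by
        ext x
        constructor
        · rintro ⟨y, hy, rfl⟩; exact hy
        · intro hx; exact ⟨⟨x, trivial⟩, hx, rfl⟩)
    exact familyControlsTransferIn_equiv e h𝓦 (hsec ⊤ N fun _ => hN)

/-- A functor controls transfer if every characteristic `p` section in which it is not normal has an Engel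
element of degree `p - 1` outside the `p`-core. -/
theorem controlsTransfer_of_engel [Finite G] [Fact p.Prime] {W : ∀ (Q : Type u) [Group Q], Subgroup Q}
    (hW : IsCharPFunctor.{u} p W)
    (hloc : ∀ (X : Type u) [Group X] [Finite X], IsSec G X →
      Subgroup.centralizer ((pCore p X : Subgroup X) : Set X) ≤ pCore p X → ∀ S : Sylow p X,
      ¬ (inducedFunctor W (S : Subgroup X)).Normal → ∃ g : X, g ∈ (S : Subgroup X) ∧ g ∉ pCore p X ∧
        ∀ U V : Subgroup X, IsChiefFactor U V → U ≤ pCore p X →
          iterCommutator U (Subgroup.zpowers g) (p - 1) ≤ V)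
    (X : Type u) [Group X] [Finite X] (hX : IsSec G X) :
    ControlsTransferIn p (inducedFunctor (G := X) W) ⊤ := by
  rw [AlperinFamily.controlsTransferIn_iff_family]
  have h := controlsTransfer_induction (G := G) (p := p) (𝓦 := {W}) (fun W' h' => (Set.mem_singleton_iff.1 h') ▸ hW) ?_ X hX
  · rwa [Set.image_singleton] at h
  intro Y _ _ hY S h
  have hn : ¬ (inducedFunctor W (S : Subgroup Y)).Normal := fun hn => by
    refine h.fail ((controlsTransfer_iff h.char S).2 ?_)
    refine le_trans ?_ (le_iSup₂ (f := fun W' (_ : W' ∈ ({W} : Set _)) => (S : Subgroup Y) ⊓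
      ⁅Subgroup.normalizer ((inducedFunctor W' (S : Subgroup Y) : Subgroup Y) : Set Y),
        Subgroup.normalizer ((inducedFunctor W' (S : Subgroup Y) : Subgroup Y) : Set Y)⁆) W rfl)
    haveI := hn
    rw [Subgroup.normalizer_eq_top (H := inducedFunctor W (S : Subgroup Y))]
  obtain ⟨g, hgS, hgQ, hg⟩ := hloc Y hY h.charP S hn
  obtain ⟨U, V, hUV, hU, hne⟩ := h.no_engel (Set.singleton_nonempty W) hgS hgQ
  exact hne (hg U V hUV hU)

/-- Control of transfer evaluated at a given Sylow subgroup. -/
theorem commutator_inf_eq [Finite G] [Fact p.Prime] {W : ∀ (Q : Type u) [Group Q], Subgroup Q}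
    (hW : IsCharPFunctor.{u} p W) (h : ControlsTransferIn p (inducedFunctor (G := G) W) ⊤) (S : Sylow p G) :
    (S : Subgroup G) ⊓ commutator G = (S : Subgroup G) ⊓
      ⁅Subgroup.normalizer ((inducedFunctor W (S : Subgroup G) : Subgroup G) : Set G),
        Subgroup.normalizer ((inducedFunctor W (S : Subgroup G) : Subgroup G) : Set G)⁆ := by
  have h' := controlsTransfer_at_top (𝓦 := {W}) (fun W' h' => (Set.mem_singleton_iff.1 h') ▸ hW) S
    (by rw [Set.image_singleton]; exact AlperinFamily.controlsTransferIn_iff_family.1 h)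
  rw [focalF, iSup_singleton] at h'
  exact h'

end Cfsg.Agent.FunctorControl
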