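/-
Control of strong fusion in all sections from the sections of characteristic `p`.

Main results (namespace `Cfsg.Agent.FunctorControl`): `fusionMoves`, `controlsFusion_of_reach`, `FusionMin`,
`FusionMin.charP`, `controlsFusion_induction`, `controlsStrongFusion_of_family`.
-/
import Cfsg.Agent.Lib.FunctorControl.Transfer

set_option autoImplicit false
open Cfsg
open scoped commutatorElement

namespace Cfsg.Agent.FunctorControl

universe u

variable {G : Type u} [Group G] {p : ℕ} {𝓦 : Set (∀ (Q : Type u) [Group Q], Subgroup Q)}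

/-- The elements normalizing some `W S`. -/
def fusionMoves (𝓦 : Set (∀ (Q : Type u) [Group Q], Subgroup Q)) (S : Subgroup G) : Set G :=
  {z | ∃ W ∈ 𝓦, z ∈ Subgroup.normalizer ((inducedFunctor W S : Subgroup G) : Set G)}

open AlperinFamily in
theorem controlsFusion_of_reach [Finite G] [Fact p.Prime] (S : Sylow p G)
    (h : ∀ (A : Set G) (g : G), A ⊆ (S : Subgroup G) → (fun a => g * a * g⁻¹) '' A ⊆ (S : Subgroup G) →
      Reach (fusionMoves 𝓦 (S : Subgroup G)) (S : Subgroup G) A g) :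
    FamilyControlsStrongFusionIn p ((fun W => inducedFunctor (G := G) W) '' 𝓦) ⊤ := by
  refine ⟨S, le_top, S.isPGroup', by rw [Subgroup.relIndex_top_right]; exact S.not_dvd_index,
    fun A g _ hA hgA => ?_⟩
  obtain ⟨c, hc, hce⟩ := h A g hA hgA
  obtain ⟨n, d, h0, hL, hd, hlast⟩ := hc.exists_chain
  exact ⟨n, d, h0, fun i => let ⟨W, hW, hh⟩ := hL i; ⟨_, ⟨W, hW, rfl⟩, trivial, hh⟩, hd, hlast ▸ hce⟩

open AlperinFamily in
theorem reach_of_control [Finite G] [Fact p.Prime] (h𝓦 : ∀ W ∈ 𝓦, IsCharPFunctor.{u} p W) (S : Sylow p G)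
    {H : Subgroup G} (hSH : (S : Subgroup G) ≤ H)
    (hctl : FamilyControlsStrongFusionIn p ((fun W => inducedFunctor (G := G) W) '' 𝓦) H)
    {B : Set G} {x : G} (hx : x ∈ H) (hB : B ⊆ (S : Subgroup G))
    (hxB : (fun a => x * a * x⁻¹) '' B ⊆ (S : Subgroup G)) :
    Reach (fusionMoves 𝓦 (S : Subgroup G)) (S : Subgroup G) B x := by
  have hd : ¬ p ∣ (S : Subgroup G).relIndex H := fun hd =>
    S.not_dvd_index (hd.trans (Subgroup.relIndex_dvd_index_of_le hSH))
  obtain ⟨n, c, h0, hc, hcS, hce⟩ := familyControlsStrongFusion_at (forall_isConjugacyFunctor h𝓦) hSH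
    S.isPGroup' hd hctl B x hx hB hxB
  refine (Reach.of_chain c h0 hB (fun i => ?_) (Fin.last n)).congr hce
  obtain ⟨_, ⟨W, hW, rfl⟩, hz⟩ := hc i
  refine ⟨c i.succ * (c i.castSucc)⁻¹, ?_, fun _ _ => rfl⟩
  have := Moves.step (L := fusionMoves 𝓦 (S : Subgroup G)) (c i.succ * (c i.castSucc)⁻¹)
    (Moves.refl (hcS i.castSucc)) ⟨W, hW, hz.2⟩ (by
      rw [mul_one, Set.image_image]
      refine le_trans (le_of_eq ?_) (hcS i.succ)
      congr 1; funext a; group)
  rwa [mul_one] at this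

theorem not_dvd_relIndex_inf_in [Finite G] [Fact p.Prime] {R H : Subgroup G} (hR : IsPGroup p R) (hRH : R ≤ H)
    (hd : ¬ p ∣ R.relIndex H) {K : Subgroup G} (hK : (K.subgroupOf H).Normal) :
    ¬ p ∣ (R ⊓ K).relIndex (H ⊓ K) := by
  haveI := hK
  let P : Sylow p ↥H := (hR.comap_subtype : IsPGroup p ↥(R.subgroupOf H)).toSylow hd
  have h1 : ¬ p ∣ (R.subgroupOf H).relIndex (K.subgroupOf H) := StrongEmb.not_dvd_relIndex_inf P _
  intro h2
  refine h1 ?_
  have e1 : (R.subgroupOf H).relIndex (K.subgroupOf H) = R.relIndex (H ⊓ K) := by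
    rw [show R.subgroupOf H = R.comap H.subtype from rfl, Subgroup.relIndex_comap, Subgroup.subgroupOf_map_subtype,
      inf_comm]
  have e2 : (R ⊓ K).relIndex (H ⊓ K) = R.relIndex (H ⊓ K) := by
    rw [← Subgroup.inf_relIndex_right (R ⊓ K), ← Subgroup.inf_relIndex_right R]
    congr 1
    rw [inf_assoc, ← inf_assoc K H K, inf_comm K H, inf_assoc H K K, inf_idem]
  rw [e1, ← e2]
  exact h2

/-- Chains through subgroups above `Q`. -/
theorem reach_of_steps_above {L : Set G} {S Q : Subgroup G} [Q.Normal] {A : Set G} {g : G} {𝓕 : Set (Subgroup G)}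
    {m : ℕ} (hS : ∀ T ∈ 𝓕, T ≤ S)
    (hgood : ∀ T ∈ 𝓕, Q ≤ T → m ≤ Nat.card T → ∀ (B : Set G), B ⊆ T →
      ∀ x ∈ Subgroup.normalizer (T : Set G), AlperinFamily.Reach L S B x) [Finite G]
    (h : AlperinFamily.Steps 𝓕 A g) : A.ncard = m → (Q : Set G) ⊆ A → A ⊆ S →
      AlperinFamily.Reach L S A g⁻¹ := by
  induction h with
  | nil A => intro _ _ hA; simpa using AlperinFamily.Reach.refl hA
  | @cons A g T x hT hx hA _ ih =>
    intro hm hQA _
    have hinj : Function.Injective (fun a : G => x⁻¹ * a * x) := fun a b e => by simpa using e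
    have e : (fun a => x⁻¹ * a * x⁻¹⁻¹) '' A = (fun a => x⁻¹ * a * x) '' A := by simp
    rw [mul_inv_rev]
    refine (hgood T hT (fun q hq => hA (hQA hq)) (hm ▸ ?_) A hA x⁻¹ (inv_mem hx)).comp ?_
    · exact Set.ncard_le_ncard hA (Set.toFinite _)
    rw [e]
    refine ih (by rw [Set.ncard_image_of_injective _ hinj, hm]) ?_ ?_
    · intro q hq
      exact ⟨x * q * x⁻¹, hQA (Subgroup.Normal.conj_mem inferInstance q hq x), by simp [mul_assoc]⟩
    · rintro _ ⟨a, ha, rfl⟩
      exact hS T hT ((Subgroup.mem_normalizer_iff''.1 hx a).1 (hA ha))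

/-- All proper subgroups and all proper quotients are controlled, but `G` is not. -/
structure FusionMin [Finite G] (p : ℕ) (𝓦 : Set (∀ (Q : Type u) [Group Q], Subgroup Q)) (S : Sylow p G) :
    Prop where
  char : ∀ W ∈ 𝓦, IsCharPFunctor.{u} p W
  proper : ∀ H : Subgroup G, H ≠ ⊤ → FamilyControlsStrongFusionIn p ((fun W => inducedFunctor (G := G) W) '' 𝓦) H
  quot : ∀ (N : Subgroup G) [N.Normal], N ≠ ⊥ →
    FamilyControlsStrongFusionIn p ((fun W => inducedFunctor (G := G ⧸ N) W) '' 𝓦) ⊤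
  fail : ¬ FamilyControlsStrongFusionIn p ((fun W => inducedFunctor (G := G) W) '' 𝓦) ⊤

namespace FusionMin

open AlperinFamily

variable [Finite G] [Fact p.Prime] {S : Sylow p G}

theorem reach_proper (h : FusionMin p 𝓦 S) {H : Subgroup G} (hSH : (S : Subgroup G) ≤ H) (hH : H ≠ ⊤)
    {B : Set G} {x : G} (hx : x ∈ H) (hB : B ⊆ (S : Subgroup G))
    (hxB : (fun a => x * a * x⁻¹) '' B ⊆ (S : Subgroup G)) :
    Reach (fusionMoves 𝓦 (S : Subgroup G)) (S : Subgroup G) B x :=
  reach_of_control h.char S hSH (h.proper H hH) hx hB hxB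

theorem pCore_ne_bot (h : FusionMin p 𝓦 S) : pCore p G ≠ ⊥ := by
  intro hQ
  refine h.fail (familyControlsStrongFusionIn_top S (forall_isConjugacyFunctor h.char)
    (FN p (S : Subgroup G)) (fun _ hT => hT) (fun U hU => fn_reps S U hU)
    fun T hT hT1 _ => h.proper _ fun htop => hT1 ?_)
  exact le_bot_iff.1 ((Cores.le_pCore (Subgroup.normalizer_eq_top_iff.1 htop)
    (S.isPGroup'.to_le hT)).trans hQ.le)

/-- There is no nontrivial normal subgroup of order prime to `p`. -/
theorem eq_bot_of_coprime (h : FusionMin p 𝓦 S) (H : Subgroup G) [H.Normal] (hH : ¬ p ∣ Nat.card H) :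
    H = ⊥ := by
  by_contra hne
  refine h.fail (controlsFusion_of_reach S fun A g hA hgA => ?_)
  set L := fusionMoves 𝓦 (S : Subgroup G)
  set q := QuotientGroup.mk' H with hq
  have hqs : Function.Surjective q := QuotientGroup.mk'_surjective H
  have hker : ¬ p ∣ Nat.card q.ker := by rwa [hq, QuotientGroup.ker_mk']
  have hinj : ∀ a ∈ (S : Subgroup G), ∀ b ∈ (S : Subgroup G), q a = q b → a = b := fun a ha b hb e =>
    congrArg Subtype.val (injective_comp_subtype q S.isPGroup' hker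
      (a₁ := ⟨a, ha⟩) (a₂ := ⟨b, hb⟩) e)
  obtain ⟨n, c, h0, hc, hcS, hce⟩ := familyControlsStrongFusion_at (forall_isConjugacyFunctor h.char)
    (H := (⊤ : Subgroup (G ⧸ H))) le_top (S.mapSurjective hqs).isPGroup'
    (by rw [Subgroup.relIndex_top_right]; exact (S.mapSurjective hqs).not_dvd_index) (h.quot H hne)
    (q '' A) (q g) trivial (by rintro _ ⟨a, ha, rfl⟩; exact ⟨a, hA ha, rfl⟩)
    (by rintro _ ⟨_, ⟨a, ha, rfl⟩, rfl⟩; exact ⟨g * a * g⁻¹, hgA ⟨a, ha, rfl⟩, by simp⟩)
  have key : ∀ i : Fin (n + 1), ∃ y : G, q y = c i ∧ Moves L (S : Subgroup G) A y := by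
    intro i
    induction i using Fin.induction with
    | zero => exact ⟨1, by rw [map_one, h0], Moves.refl hA⟩
    | succ i ih =>
      obtain ⟨y, hy, hmv⟩ := ih
      obtain ⟨_, ⟨W, hW, rfl⟩, hz⟩ := hc i
      have hcj := isConjugacyFunctor_induced (G := G) (h.char W hW)
      set N := Subgroup.normalizer ((inducedFunctor W (S : Subgroup G) : Subgroup G) : Set G) with hN
      have hz' : c i.succ * (c i.castSucc)⁻¹ ∈ N.map q := by
        have hz2 := hz.2
        dsimp only at hz2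
        rw [Sylow.coe_mapSurjective, map_inducedFunctor_of_coprime (h.char W hW) q hker S.isPGroup',
          ← map_normalizer_of_coprime q hqs hker (S.isPGroup'.to_le (inducedFunctor_le W _))] at hz2
        exact hz2
      obtain ⟨z, hzN, hze⟩ := hz'
      set J := N ⊓ ((S : Subgroup G).map q).comap q with hJ
      have hSN : (S : Subgroup G) ≤ N := le_normalizer_functor hcj S.isPGroup'
      have hSJ : (S : Subgroup G) ≤ J := le_inf hSN (Subgroup.le_comap_map _ _)
      have hsy : Fusion.IsSylowIn p (S : Subgroup G) J := ⟨hSJ, S.isPGroup', fun C a _ d => S.is_maximal' d a⟩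
      have hys : (fun a => y * a * y⁻¹) '' A ⊆ (S : Subgroup G) := hmv.image_subset
      set P := Subgroup.closure ((fun a => z * (y * a * y⁻¹) * z⁻¹) '' A) with hP
      have hPp : IsPGroup p P := (S.isPGroup'.map (MulAut.conj z).toMonoidHom).to_le (by
        rw [hP, Subgroup.closure_le]
        rintro _ ⟨a, ha, rfl⟩
        exact ⟨_, hys ⟨a, ha, rfl⟩, rfl⟩)
      have hPJ : P ≤ J := by
        rw [hP, Subgroup.closure_le]
        rintro _ ⟨a, ha, rfl⟩
        refine ⟨N.mul_mem (N.mul_mem hzN (hSN (hys ⟨a, ha, rfl⟩))) (N.inv_mem hzN), ?_⟩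
        have hmem := hcS i.succ ⟨_, ⟨a, ha, rfl⟩, rfl⟩
        show q (z * (y * a * y⁻¹) * z⁻¹) ∈ (S : Subgroup G).map q
        simp only [map_mul, map_inv, hy, hze]
        simp only [SetLike.mem_coe, Sylow.coe_mapSurjective] at hmem
        convert hmem using 1
        group
      obtain ⟨d, hd, hdP⟩ := hsy.exists_conj_le hPp hPJ
      have hd' : d ∈ (((S : Subgroup G) ⊔ H : Subgroup G) : Set G) := by
        have := hd.2
        rw [Subgroup.comap_map_eq, hq, QuotientGroup.ker_mk'] at this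
        exact this
      rw [Subgroup.mul_normal] at hd'
      obtain ⟨s, hs, k, hk, rfl⟩ := hd'
      have hkN : k ∈ N := by simpa using N.mul_mem (N.inv_mem (hSN hs)) hd.1
      refine ⟨k * z * y, ?_, Moves.step _ hmv ⟨W, hW, N.mul_mem hkN hzN⟩ ?_⟩
      · rw [map_mul, map_mul, show q k = 1 from (QuotientGroup.eq_one_iff k).2 hk, one_mul, hze, hy,
          inv_mul_cancel_right]
      · rintro _ ⟨a, ha, rfl⟩
        have h1 := hdP _ (Subgroup.subset_closure ⟨a, ha, rfl⟩)
        have h2 := (S : Subgroup G).mul_mem ((S : Subgroup G).mul_mem ((S : Subgroup G).inv_mem hs) h1) hs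
        simp only [SetLike.mem_coe]
        convert h2 using 1
        group
  obtain ⟨y, hy, hmv⟩ := key (Fin.last n)
  refine ⟨y, hmv, fun a ha => hinj _ (hmv.image_subset ⟨a, ha, rfl⟩) _ (hgA ⟨a, ha, rfl⟩) ?_⟩
  simpa [hy] using hce (q a) ⟨a, ha, rfl⟩

/-- The case where `C(Q) S` is the whole group. -/
theorem reach_of_eq_top (h : FusionMin p 𝓦 S) (hS : (S : Subgroup G) ≠ ⊤) (hSQ : ¬ (S : Subgroup G) ≤ pCore p G)
    (htop : Subgroup.centralizer ((pCore p G : Subgroup G) : Set G) ⊔ (S : Subgroup G) = ⊤)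
    {T : Subgroup G} (hTS : T ≤ (S : Subgroup G)) (hfn : FN p (S : Subgroup G) T) (hQT : pCore p G ≤ T)
    {B : Set G} (hB : B ⊆ T) {x : G} (hx : x ∈ Subgroup.normalizer (T : Set G)) :
    Reach (fusionMoves 𝓦 (S : Subgroup G)) (S : Subgroup G) B x := by
  set Q := pCore p G with hQdef
  haveI hQn : Q.Normal := Cores.pCore_normal p G
  have hQp : IsPGroup p Q := Cores.isPGroup_pCore p G
  have hQS : Q ≤ (S : Subgroup G) := Cores.pCore_le_sylow S
  set q := QuotientGroup.mk' Q with hq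
  have hqs : Function.Surjective q := QuotientGroup.mk'_surjective Q
  have hpre : ∀ a, q a ∈ (S : Subgroup G).map q → a ∈ (S : Subgroup G) := fun a ha => by
    have ha' : a ∈ ((S : Subgroup G).map q).comap q := ha
    rwa [Subgroup.comap_map_eq, hq, QuotientGroup.ker_mk', sup_eq_left.2 hQS] at ha'
  obtain ⟨n, c, h0, hc, hcS, hce⟩ := familyControlsStrongFusion_at (forall_isConjugacyFunctor h.char)
    (H := (⊤ : Subgroup (G ⧸ Q))) le_top (S.mapSurjective hqs).isPGroup'
    (by rw [Subgroup.relIndex_top_right]; exact (S.mapSurjective hqs).not_dvd_index) (h.quot Q h.pCore_ne_bot)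
    (q '' (T : Set G)) (q x) trivial (by rintro _ ⟨a, ha, rfl⟩; exact ⟨a, hTS ha, rfl⟩)
    (by
      rintro _ ⟨_, ⟨a, ha, rfl⟩, rfl⟩
      exact ⟨x * a * x⁻¹, hTS ((Subgroup.mem_normalizer_iff.1 hx a).1 ha), by simp⟩)
  have key : ∀ i : Fin (n + 1), ∃ y : G, q y = c i ∧
      (fun a => y * a * y⁻¹) '' (T : Set G) ⊆ (S : Subgroup G) ∧
      Reach (fusionMoves 𝓦 (S : Subgroup G)) (S : Subgroup G) (T : Set G) y := by
    intro i
    induction i using Fin.induction with
    | zero => exact ⟨1, by rw [map_one, h0], by rintro _ ⟨a, ha, rfl⟩; show 1 * a * 1⁻¹ ∈ (S : Subgroup G); rw [one_mul, inv_one, mul_one]; exact hTS ha, Reach.refl hTS⟩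
    | succ i ih =>
      obtain ⟨y, hy, hyS, hR⟩ := ih
      obtain ⟨_, ⟨W, hW, rfl⟩, hz⟩ := hc i
      obtain ⟨z, hze⟩ := hqs (c i.succ * (c i.castSucc)⁻¹)
      have hcj := isConjugacyFunctor_induced (G := G ⧸ Q) (h.char W hW)
      have hT' : ((S.mapSurjective hqs : Sylow p (G ⧸ Q)) : Subgroup (G ⧸ Q)) = (S : Subgroup G).map q := rfl
      set N := Subgroup.normalizer ((inducedFunctor W ((S : Subgroup G).map q) : Subgroup (G ⧸ Q)) : Set (G ⧸ Q))
      have hSp : IsPGroup p ((S : Subgroup G).map q) := S.isPGroup'.map q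
      have hne : N.comap q ≠ ⊤ := by
        intro e
        have e' : N = ⊤ := by
          rw [← Subgroup.map_comap_eq_self_of_surjective hqs N, e, ← MonoidHom.range_eq_map,
            MonoidHom.range_eq_top.2 hqs]
        refine (hcj _ hSp).2.1 (fun e'' => hSQ ?_) (le_bot_iff.1 ?_)
        · rwa [Subgroup.map_eq_bot_iff, hq, QuotientGroup.ker_mk'] at e''
        · refine le_trans ?_ (Cores.pCore_quotient_self p G).le
          exact Cores.le_pCore (Subgroup.normalizer_eq_top_iff.1 e') (hSp.to_le (hcj _ hSp).1)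
      have hzN : z ∈ N.comap q := by
        show q z ∈ N
        rw [hze]
        exact hz.2
      have hyS' : (fun a => z * a * z⁻¹) '' ((fun a => y * a * y⁻¹) '' (T : Set G)) ⊆ (S : Subgroup G) := by
        rintro _ ⟨_, ⟨a, ha, rfl⟩, rfl⟩
        refine hpre _ ?_
        have hmem := hcS i.succ ⟨_, ⟨a, ha, rfl⟩, rfl⟩
        simp only [map_mul, map_inv, hy, hze]
        simp only [SetLike.mem_coe, hT'] at hmem
        convert hmem using 1
        group
      refine ⟨z * y, by rw [map_mul, hze, hy, inv_mul_cancel_right], ?_,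
        hR.comp (h.reach_proper (Subgroup.map_le_iff_le_comap.1 (le_normalizer_functor hcj hSp)) hne hzN hyS hyS')⟩
      rw [Set.image_image] at hyS'
      refine le_trans (le_of_eq ?_) hyS'
      congr 1; funext a; group
  obtain ⟨y, hy, hyS, hR⟩ := key (Fin.last n)
  set H := Subgroup.normalizer (T : Set G) with hH
  have hqe : ∀ t ∈ T, q (y * t * y⁻¹) = q (x * t * x⁻¹) := fun t ht => by
    simpa [hy] using hce (q t) ⟨t, ht, rfl⟩
  have hyT : y ∈ H := by
    rw [hH, ← cj_eq_iff]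
    refine Subgroup.eq_of_le_of_card_ge ?_ (by rw [card_cj])
    rintro _ ⟨t, ht, rfl⟩
    show y * t * y⁻¹ ∈ T
    have h1 : (x * t * x⁻¹)⁻¹ * (y * t * y⁻¹) ∈ Q := QuotientGroup.eq.1 (hqe t ht).symm
    have := T.mul_mem ((Subgroup.mem_normalizer_iff.1 hx t).1 ht) (hQT h1)
    rwa [mul_inv_cancel_left] at this
  set d := y⁻¹ * x with hd
  haveI hcn : ((H ⊓ KInfinity.centMod T Q).subgroupOf H).Normal := ⟨fun a ha g => by
    have ha' : (a : G) ∈ H ⊓ KInfinity.centMod T Q := ha
    show ((g * a * g⁻¹ : ↥H) : G) ∈ H ⊓ KInfinity.centMod T Q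
    refine ⟨(g * a * g⁻¹).2, KInfinity.mem_centMod.2 fun t ht => ?_⟩
    have h1 := KInfinity.mem_centMod.1 ha'.2 ((g : G)⁻¹ * t * g) ((Subgroup.mem_normalizer_iff''.1 g.2 t).1 ht)
    have h2 := hQn.conj_mem _ h1 (g : G)
    simpa [commutatorElement_def, mul_assoc] using h2⟩
  set E := H ⊓ KInfinity.centMod T Q with hE
  have hdE : d ∈ E := by
    refine ⟨H.mul_mem (H.inv_mem hyT) hx, KInfinity.mem_centMod.2 fun t ht => ?_⟩
    have h1 : q (d * t * d⁻¹) = q t := by
      have := hqe t ht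
      simp only [map_mul, map_inv] at this
      simp only [hd, map_mul, map_inv, mul_inv_rev, inv_inv]
      calc (q y)⁻¹ * q x * q t * ((q x)⁻¹ * q y) = (q y)⁻¹ * (q x * q t * (q x)⁻¹) * q y := by group
        _ = (q y)⁻¹ * (q y * q t * (q y)⁻¹) * q y := by rw [this]
        _ = q t := by group
    rw [← QuotientGroup.eq_one_iff, ← QuotientGroup.mk'_apply]
    show q ⁅t, d⁆ = 1
    rw [commutatorElement_def, show t * d * t⁻¹ * d⁻¹ = t * (d * t⁻¹ * d⁻¹) by group, map_mul,
      show d * t⁻¹ * d⁻¹ = (d * t * d⁻¹)⁻¹ by group, map_inv, h1, mul_inv_cancel]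
  set C := Subgroup.centralizer ((Q : Subgroup G) : Set G) with hCdef
  haveI hCn : C.Normal := by rw [hCdef]; infer_instance
  -- `p'`-elements centralize `Q`
  have hpC : ∀ m : G, (orderOf m).Coprime p → m ∈ C := by
    intro m hm
    have hm' : m ∈ ((C ⊔ (S : Subgroup G) : Subgroup G) : Set G) := by rw [htop]; trivial
    rw [Subgroup.normal_mul] at hm'
    obtain ⟨a, ha, s, hs, hme⟩ := hm'
    obtain ⟨k, hk⟩ := IsPGroup.iff_orderOf.1 S.isPGroup' ⟨s, hs⟩
    rw [Subgroup.orderOf_mk] at hk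
    rw [← QuotientGroup.eq_one_iff (N := C), ← orderOf_eq_one_iff]
    refine Nat.eq_one_of_dvd_coprimes (hm.pow_right k) (orderOf_map_dvd (QuotientGroup.mk' C) m) ?_
    have e : QuotientGroup.mk' C m = QuotientGroup.mk' C s := by
      rw [← hme]
      show QuotientGroup.mk' C (a * s) = _
      rw [map_mul, show QuotientGroup.mk' C a = 1 from (QuotientGroup.eq_one_iff a).2 ha, one_mul]
    show orderOf (QuotientGroup.mk' C m) ∣ p ^ k
    rw [e, ← hk]
    exact orderOf_map_dvd _ s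
  set R := (S : Subgroup G) ⊓ H with hRdef
  set K := E ⊓ Subgroup.centralizer (T : Set G) with hKdef
  have hfac : d ∈ ((R ⊓ E) ⊔ K : Subgroup G) := by
    haveI : (K.subgroupOf E).Normal := ⟨fun a ha g => by
      have ha' : (a : G) ∈ K := ha
      show ((g * a * g⁻¹ : ↥E) : G) ∈ K
      refine ⟨(g * a * g⁻¹).2, Subgroup.mem_centralizer_iff.2 fun t ht => ?_⟩
      have hg : (g : G) ∈ H := g.2.1
      have h1 := Subgroup.mem_centralizer_iff.1 ha'.2 _ ((Subgroup.mem_normalizer_iff''.1 hg t).1 ht)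
      have h2 := congrArg (fun w => (g : G) * w * (g : G)⁻¹) h1
      simpa [mul_assoc] using h2⟩
    have hdd : ¬ p ∣ (R ⊓ E).relIndex E := by
      have := not_dvd_relIndex_inf_in (S.isPGroup'.to_inf_left : IsPGroup p R) inf_le_right hfn hcn
      rwa [show H ⊓ E = E from inf_eq_right.2 inf_le_left] at this
    have hREp : IsPGroup p ((R ⊓ E).subgroupOf E) :=
      (S.isPGroup'.to_le (inf_le_left.trans inf_le_left) : IsPGroup p ↥(R ⊓ E)).comap_subtype
    let P : Sylow p ↥E := hREp.toSylow hdd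
    set π := QuotientGroup.mk' (K.subgroupOf E) with hπ
    have hπs : Function.Surjective π := QuotientGroup.mk'_surjective _
    have hquot : IsPGroup p (↥E ⧸ K.subgroupOf E) := by
      intro w
      obtain ⟨a, rfl⟩ := hπs w
      obtain ⟨k, m, hm, hkm⟩ := Nat.exists_eq_pow_mul_and_not_dvd (orderOf_pos (a : G)).ne' p (Fact.out : p.Prime).ne_one
      refine ⟨k, ?_⟩
      rw [← map_pow]
      refine (QuotientGroup.eq_one_iff _).2 (?_ : ((a ^ p ^ k : ↥E) : G) ∈ K)
      refine ⟨(a ^ p ^ k).2, Subgroup.mem_centralizer_iff.2 fun t ht => ?_⟩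
      have hmp : (orderOf ((a ^ p ^ k : ↥E) : G)).Coprime p := by
        rw [SubmonoidClass.coe_pow, orderOf_pow_of_dvd (pow_ne_zero k (Fact.out : p.Prime).ne_zero)
          (hkm ▸ dvd_mul_right _ _), hkm, Nat.mul_div_cancel_left _ (pow_pos (Fact.out : p.Prime).pos k)]
        exact ((Fact.out : p.Prime).coprime_iff_not_dvd.2 hm).symm
      have hcQ : ⁅t, ((a ^ p ^ k : ↥E) : G)⁆ ∈ Q := KInfinity.mem_centMod.1 (a ^ p ^ k).2.2 t ht
      refine (CharP.eq_one_of_commute hmp ?_ ?_).eq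
      · obtain ⟨j, hj⟩ := hQp ⟨_, hcQ⟩
        exact ⟨j, by simpa [commutatorElement_def] using congrArg Subtype.val hj⟩
      · have hcom : Commute ⁅t, ((a ^ p ^ k : ↥E) : G)⁆ ((a ^ p ^ k : ↥E) : G) :=
          Subgroup.mem_centralizer_iff.1 (hpC _ hmp) _ hcQ
        rw [commutatorElement_def] at hcom
        exact hcom
    have htop' : (P : Subgroup ↥E).map π = ⊤ := by
      rw [← Sylow.coe_mapSurjective hπs P]
      exact ((P.mapSurjective hπs).is_maximal' (hquot.to_subgroup ⊤) le_top).symm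
    have h1 : (⟨d, hdE⟩ : ↥E) ∈ (((R ⊓ E).subgroupOf E).map π).comap π := by
      rw [Subgroup.mem_comap, show ((R ⊓ E).subgroupOf E).map π = ⊤ from htop']
      trivial
    rw [Subgroup.comap_map_eq, hπ, QuotientGroup.ker_mk'] at h1
    have h2 := Subgroup.mem_map_of_mem E.subtype h1
    rw [Subgroup.map_sup, Subgroup.subgroupOf_map_subtype, Subgroup.subgroupOf_map_subtype] at h2
    exact (sup_le_sup (inf_le_left : R ⊓ E ⊓ E ≤ R ⊓ E) (inf_le_left : K ⊓ E ≤ K)) h2
  have hKn : R ⊓ E ≤ Subgroup.normalizer (K : Set G) := by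
    refine Subgroup.le_normalizer_iff.2 fun g hg a ha => ?_
    refine ⟨E.mul_mem (E.mul_mem hg.2 ha.1) (E.inv_mem hg.2), Subgroup.mem_centralizer_iff.2 fun t ht => ?_⟩
    have hgH : g ∈ H := hg.2.1
    have h1 := Subgroup.mem_centralizer_iff.1 ha.2 _ ((Subgroup.mem_normalizer_iff''.1 hgH t).1 ht)
    have h2 := congrArg (fun w => g * w * g⁻¹) h1
    simpa [mul_assoc] using h2
  have hfac' : d ∈ (((R ⊓ E) ⊔ K : Subgroup G) : Set G) := hfac
  rw [Subgroup.coe_mul_of_left_le_normalizer_right _ _ hKn] at hfac'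
  obtain ⟨r, hr, k, hk, hrk⟩ := hfac'
  have hrk' : x = y * (r * k) := by rw [show r * k = d from hrk, hd, mul_inv_cancel_left]
  have hk1 : ∀ t ∈ T, k * t * k⁻¹ = t := fun t ht => by
    rw [← Subgroup.mem_centralizer_iff.1 hk.2 t ht, mul_inv_cancel_right]
  have hrT : ∀ t ∈ T, r * t * r⁻¹ ∈ T := fun t ht => (Subgroup.mem_normalizer_iff.1 hr.2.1 t).1 ht
  have hBS : B ⊆ (S : Subgroup G) := fun b hb => hTS (hB hb)
  have h1 : Reach (fusionMoves 𝓦 (S : Subgroup G)) (S : Subgroup G) B r :=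
    h.reach_proper le_rfl hS hr.1.1 hBS (by rintro _ ⟨a, ha, rfl⟩; exact hTS (hrT a (hB ha)))
  have h2 : Reach (fusionMoves 𝓦 (S : Subgroup G)) (S : Subgroup G) B (y * r) := by
    refine h1.comp (hR.mono ?_)
    rintro _ ⟨a, ha, rfl⟩
    exact hrT a (hB ha)
  refine h2.congr fun a ha => ?_
  rw [hrk']
  calc y * r * a * (y * r)⁻¹ = y * r * (k * a * k⁻¹) * (y * r)⁻¹ := by rw [hk1 a (hB ha)]
    _ = y * (r * k) * a * (y * (r * k))⁻¹ := by group

/-- A group of minimal failure has characteristic `p`. -/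
theorem charP (h : FusionMin p 𝓦 S) :
    Subgroup.centralizer ((pCore p G : Subgroup G) : Set G) ≤ pCore p G := by
  set Q := pCore p G with hQdef
  haveI hQn : Q.Normal := Cores.pCore_normal p G
  have hQp : IsPGroup p Q := Cores.isPGroup_pCore p G
  have hQS : Q ≤ (S : Subgroup G) := Cores.pCore_le_sylow S
  by_cases hS : (S : Subgroup G) = ⊤
  · refine le_top.trans ?_
    rw [hQdef, Cores.pCore_eq_top_iff.2 (S.isPGroup'.of_equiv ((MulEquiv.subgroupCongr hS).trans Subgroup.topEquiv))]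
  set C := Subgroup.centralizer (Q : Set G) with hCdef
  haveI hCn : C.Normal := by rw [hCdef]; infer_instance
  set L := Q ⊔ C with hLdef
  set R₀ := (S : Subgroup G) ⊓ L with hRdef
  by_cases hR : R₀ ≤ Q
  · by_contra hCQ
    obtain ⟨H, hHn, hHp, hH⟩ := exists_coprime_normal S Q ((inf_le_inf_left _ le_sup_right).trans hR) hCQ
    haveI := hHn
    exact hH (h.eq_bot_of_coprime H hHp)
  exfalso
  refine h.fail (controlsFusion_of_reach S ?_)
  set Lm := fusionMoves 𝓦 (S : Subgroup G)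
  set P : Subgroup G → Prop := FN p (S : Subgroup G)
  have hsteps : ∀ (A : Set G) (g : G), A ⊆ (S : Subgroup G) → (fun a => g * a * g⁻¹) '' A ⊆ (S : Subgroup G) →
      Steps {T : Subgroup G | T ≤ (S : Subgroup G) ∧ P T} A g⁻¹ := fun A g hA hgA =>
    steps_of_good S P (fun _ hT => hT) (fun U hU => fn_reps S U hU) A g⁻¹ hA (by rw [inv_inv]; exact hgA)
  suffices main : ∀ T : Subgroup G, T ≤ (S : Subgroup G) → P T → Q ≤ T → ∀ (B : Set G), B ⊆ T →
      ∀ x ∈ Subgroup.normalizer (T : Set G), Reach Lm (S : Subgroup G) B x by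
    intro A g hA hgA
    have hA' : A ∪ (Q : Set G) ⊆ (S : Subgroup G) := Set.union_subset hA hQS
    have hgA' : (fun a => g * a * g⁻¹) '' (A ∪ (Q : Set G)) ⊆ (S : Subgroup G) := by
      rintro _ ⟨a, ha | ha, rfl⟩
      · exact hgA ⟨a, ha, rfl⟩
      · exact hQS (hQn.conj_mem a ha g)
    have hres := reach_of_steps_above (L := Lm) (S := (S : Subgroup G)) (Q := Q) (m := (A ∪ (Q : Set G)).ncard)
      (fun T hT => hT.1) (fun T hT hQT _ B hB x hx => main T hT.1 hT.2 hQT B hB x hx) (hsteps _ _ hA' hgA') rfl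
      Set.subset_union_right hA'
    rw [inv_inv] at hres
    exact hres.mono Set.subset_union_left
  by_cases htop : C ⊔ (S : Subgroup G) = ⊤
  · intro T hTS hfn hQT B hB x hx
    refine h.reach_of_eq_top hS (fun hSQ => hR (inf_le_left.trans hSQ)) htop hTS hfn hQT hB hx
  have hLS : L ⊔ (S : Subgroup G) ≠ ⊤ := fun e => htop (top_le_iff.1 (e ▸ sup_le (sup_le (hQS.trans le_sup_right)
    le_sup_left) le_sup_right))
  set M := Subgroup.normalizer (R₀ : Set G)
  have hM : M ≠ ⊤ := fun e => hR (Cores.le_pCore (Subgroup.normalizer_eq_top_iff.1 e) S.isPGroup'.to_inf_left)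
  have hSM : (S : Subgroup G) ≤ M := by
    refine Subgroup.le_normalizer_iff.2 fun s hs a ha =>
      ⟨(S : Subgroup G).mul_mem ((S : Subgroup G).mul_mem hs ha.1) ((S : Subgroup G).inv_mem hs), ?_⟩
    exact Subgroup.Normal.conj_mem inferInstance a ha.2 s
  suffices key : ∀ (k : ℕ) (T : Subgroup G), Nat.card G ≤ Nat.card T + k → T ≤ (S : Subgroup G) → P T → Q ≤ T →
      ∀ (B : Set G), B ⊆ T → ∀ x ∈ Subgroup.normalizer (T : Set G), Reach Lm (S : Subgroup G) B x from
    fun T => key (Nat.card G) T (Nat.le_add_left _ _)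
  intro k
  induction k using Nat.strong_induction_on with
  | _ k ih =>
  intro T hk hTS hfn hQT B hB x hx
  set H := Subgroup.normalizer (T : Set G) with hH
  set R := (S : Subgroup G) ⊓ H with hRH
  have hBS : B ⊆ (S : Subgroup G) := fun b hb => hTS (hB hb)
  have hxB : (fun a => x * a * x⁻¹) '' B ⊆ (S : Subgroup G) := by
    rintro _ ⟨a, ha, rfl⟩
    exact hTS ((Subgroup.mem_normalizer_iff.1 hx a).1 (hB ha))
  by_cases hRL : R ⊓ L ≤ T
  · -- `R₀ ≤ T`, so `x` normalizes `R₀`
    have hR₀N : (S : Subgroup G) ≤ Subgroup.normalizer (R₀ : Set G) := hSM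
    have hR₀T : R₀ ≤ T := by
      by_contra hcon
      set J := T ⊔ R₀ with hJ
      have hJS : J ≤ (S : Subgroup G) := sup_le hTS inf_le_left
      have hne : T ≠ J := fun e => hcon (le_sup_right.trans e.ge)
      have hlt := exists_lt_inf_normalizer (S.isPGroup'.to_le hJS) le_sup_left hne
      obtain ⟨w, hw, hwT⟩ := SetLike.exists_of_lt hlt
      have hw1 : w ∈ ((T ⊔ R₀ : Subgroup G) : Set G) := hw.1
      rw [Subgroup.coe_mul_of_left_le_normalizer_right _ _ (hTS.trans hR₀N)] at hw1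
      obtain ⟨t, ht, r, hr, rfl⟩ := hw1
      refine hwT (T.mul_mem ht (hRL ⟨⟨hr.1, ?_⟩, hr.2⟩))
      simpa using H.mul_mem (H.inv_mem (Subgroup.le_normalizer ht)) hw.2
    have hTL : T ⊓ L = R₀ := le_antisymm (inf_le_inf_right _ hTS) (le_inf hR₀T inf_le_right)
    have hxM : x ∈ M := by
      show x ∈ Subgroup.normalizer (R₀ : Set G)
      rw [← cj_eq_iff, ← hTL]
      refine le_antisymm ?_ ?_
      · rw [cj_inf]
        exact inf_le_inf (cj_eq_iff.2 hx).le (Subgroup.Normal.map_conj_eq L x).le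
      · rw [cj_inf]
        exact inf_le_inf (cj_eq_iff.2 hx).ge (Subgroup.Normal.map_conj_eq L x).ge
    exact h.reach_proper hSM hM hxM hBS hxB
  -- enlarge `T`
  set U := R ⊓ L with hU
  set T' := T ⊔ U with hT'
  have hT'S : T' ≤ (S : Subgroup G) := sup_le hTS (inf_le_left.trans inf_le_left)
  have hcard : Nat.card T < Nat.card T' :=
    Set.ncard_lt_ncard (lt_of_le_of_ne le_sup_left fun e => hRL (le_sup_right.trans e.ge) : T < T') (Set.toFinite _)
  haveI hLH : (L.subgroupOf H).Normal := inferInstance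
  have hUd := not_dvd_relIndex_inf_in (S.isPGroup'.to_inf_left : IsPGroup p R) inf_le_right hfn hLH
  have hUp : IsPGroup p U := (S.isPGroup'.to_inf_left : IsPGroup p R).to_inf_left
  have hUHL : U ≤ H ⊓ L := inf_le_inf_right _ inf_le_right
  have hxU : cj x U ≤ H ⊓ L := by
    refine (Subgroup.map_mono hUHL).trans ?_
    show cj x (H ⊓ L) ≤ H ⊓ L
    rw [cj_inf]
    exact inf_le_inf (cj_eq_of_mem hx).le (Subgroup.Normal.map_conj_eq L x).le
  have hxUd : ¬ p ∣ (cj x U).relIndex (H ⊓ L) := by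
    have e : cj x (H ⊓ L) = H ⊓ L := by
      rw [cj_inf, cj_eq_of_mem hx, show cj x L = L from Subgroup.Normal.map_conj_eq L x]
    rw [← e]
    show ¬ p ∣ (U.map _).relIndex ((H ⊓ L).map _)
    rwa [Subgroup.relIndex_map_map_of_injective _ _ (MulAut.conj x).injective]
  obtain ⟨c, hc, hcU⟩ := exists_conj_sylowish hxU (hUp.map _) hxUd hUHL hUp hUd
  rw [cj_cj] at hcU
  have hnU : c * x ∈ Subgroup.normalizer (U : Set G) := cj_eq_iff.1 hcU
  have hnH : c * x ∈ H := H.mul_mem hc.1 hx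
  have hnT' : cj (c * x) T' = T' := by
    show Subgroup.map _ (T ⊔ U) = T ⊔ U
    rw [Subgroup.map_sup]
    exact congrArg₂ (· ⊔ ·) (cj_eq_iff.2 hnH) hcU
  have hn : Reach Lm (S : Subgroup G) (T' : Set G) (c * x) := by
    have himg : (fun a => (c * x) * a * (c * x)⁻¹) '' (T' : Set G) ⊆ (S : Subgroup G) := by
      rintro _ ⟨a, ha, rfl⟩
      exact hT'S (hnT'.le ⟨a, ha, rfl⟩)
    have hres := reach_of_steps_above (L := Lm) (S := (S : Subgroup G)) (Q := Q) (m := Nat.card T')
      (fun T hT => hT.1) (fun T'' hT'' hQT'' hle B' hB' x' hx' =>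
        ih (Nat.card G - Nat.card T'') (by
          have := Subgroup.card_le_card_group T'
          omega) T'' (by
          have := Subgroup.card_le_card_group T''
          omega) hT''.1 hT''.2 hQT'' B' hB' x' hx')
      (hsteps _ _ hT'S himg) (Nat.card_coe_set_eq _).symm (fun a ha => (hQT.trans le_sup_left) ha) hT'S
    rwa [inv_inv] at hres
  have h1 : Reach Lm (S : Subgroup G) B (c * x) := hn.mono (fun b hb => (le_sup_left : T ≤ T') (hB hb))
  have hBn : (fun a => (c * x) * a * (c * x)⁻¹) '' B ⊆ T := by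
    rintro _ ⟨a, ha, rfl⟩
    exact (Subgroup.mem_normalizer_iff.1 hnH a).1 (hB ha)
  have h2 : Reach Lm (S : Subgroup G) ((fun a => (c * x) * a * (c * x)⁻¹) '' B) c⁻¹ := by
    refine h.reach_proper le_sup_right hLS (Subgroup.mem_sup_left (L.inv_mem hc.2)) (hBn.trans hTS) ?_
    rintro _ ⟨_, ⟨a, ha, rfl⟩, rfl⟩
    exact hTS ((Subgroup.mem_normalizer_iff.1 (H.inv_mem hc.1) _).1 (hBn ⟨a, ha, rfl⟩))
  have := h1.comp h2
  rwa [inv_mul_cancel_left] at this

end FusionMin

theorem controlsFusion_induction [Finite G] [Fact p.Prime] (h𝓦 : ∀ W ∈ 𝓦, IsCharPFunctor.{u} p W)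
    (hstep : ∀ (X : Type u) [Group X] [Finite X], IsSec G X → ∀ S : Sylow p X, FusionMin p 𝓦 S → False)
    (X : Type u) [Group X] [Finite X] (hX : IsSec G X) :
    FamilyControlsStrongFusionIn p ((fun W => inducedFunctor (G := X) W) '' 𝓦) ⊤ := by
  suffices key : ∀ (n : ℕ) (X : Type u) [Group X] [Finite X], Nat.card X = n → IsSec G X →
      FamilyControlsStrongFusionIn p ((fun W => inducedFunctor (G := X) W) '' 𝓦) ⊤ from key _ X rfl hX
  intro n
  induction n using Nat.strong_induction_on with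
  | _ n ih =>
    intro X _ _ hn hX
    by_contra hfail
    obtain ⟨S⟩ : Nonempty (Sylow p X) := Sylow.nonempty
    refine hstep X hX S ⟨h𝓦, fun H hH => ?_, fun N _ hN => ?_, hfail⟩
    · exact familyControlsStrongFusionIn_subgroup h𝓦 H (ih _ (hn ▸ card_lt_of_ne_top hH) ↥H rfl (hX.subgroup H))
    · exact ih _ (hn ▸ card_quotient_lt hN) (X ⧸ N) rfl
        (hX.of_surjective (QuotientGroup.mk' N) (QuotientGroup.mk'_surjective N))

/-- Control by a single functor in the form `ControlsStrongFusion`. -/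
theorem controlsStrongFusion_of_family [Finite G] [Fact p.Prime] {W : ∀ (Q : Type u) [Group Q], Subgroup Q}
    (hW : IsCharPFunctor.{u} p W)
    (h : FamilyControlsStrongFusionIn p ((fun W => inducedFunctor (G := G) W) '' {W}) ⊤) (S : Sylow p G) :
    ControlsStrongFusion p (inducedFunctor W (S : Subgroup G)) := by
  refine ⟨S, inducedFunctor_le W _, fun A hA => ⟨hA, fun g hgA => ?_⟩⟩
  obtain ⟨n, c, h0, hc, -, hce⟩ := AlperinFamily.familyControlsStrongFusion_at
    (forall_isConjugacyFunctor (fun W' h' => (Set.mem_singleton_iff.1 h') ▸ hW)) le_top S.isPGroup'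
    (by rw [Subgroup.relIndex_top_right]; exact S.not_dvd_index) h A g trivial hA hgA
  suffices ∀ i, c i ∈ Subgroup.normalizer ((inducedFunctor W (S : Subgroup G) : Subgroup G) : Set G) from
    ⟨c (Fin.last n), this _, fun a ha => (hce a ha).symm⟩
  intro i
  induction i using Fin.induction with
  | zero => rw [h0]; exact one_mem _
  | succ j ih =>
    obtain ⟨_, ⟨W', rfl, rfl⟩, hj⟩ := hc j
    simpa using Subgroup.mul_mem _ hj.2 ih

end Cfsg.Agent.FunctorControl
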