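/-
Applications of the fusion induction.

Main results (namespace `Cfsg.Agent.FunctorControl`): `controlsFusion_of_normal`, `normal_of_pStable`.
-/
import Cfsg.Agent.Lib.FunctorControl.Fusion
import Cfsg.Agent.S1983

set_option autoImplicit false
open Cfsg
open scoped commutatorElement

namespace Cfsg.Agent.FunctorControl

universe u

variable {G : Type u} [Group G] {p : ℕ}

open AlperinFamily in
theorem controlsFusion_of_normal [Finite G] [Fact p.Prime] {W : ∀ (Q : Type u) [Group Q], Subgroup Q}
    (hW : IsCharPFunctor.{u} p W)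
    (hloc : ∀ (X : Type u) [Group X] [Finite X], IsSec G X →
      Subgroup.centralizer ((pCore p X : Subgroup X) : Set X) ≤ pCore p X → ∀ S : Sylow p X,
      (inducedFunctor W (S : Subgroup X)).Normal)
    (X : Type u) [Group X] [Finite X] (hX : IsSec G X) (S : Sylow p X) :
    ControlsStrongFusion p (inducedFunctor W (S : Subgroup X)) := by
  refine controlsStrongFusion_of_family hW (controlsFusion_induction (G := G)
    (fun W' h' => (Set.mem_singleton_iff.1 h') ▸ hW) (fun Y _ _ hY T h => h.fail ?_) X hX) S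
  haveI := hloc Y hY h.charP T
  refine controlsFusion_of_reach T fun A g hA hgA => ⟨g, ?_, fun _ _ => rfl⟩
  have := Moves.step (L := fusionMoves {W} (T : Subgroup Y)) g (Moves.refl hA)
    ⟨W, rfl, by rw [Subgroup.normalizer_eq_top (H := inducedFunctor W (T : Subgroup Y))]; trivial⟩
    (by rw [mul_one]; exact hgA)
  rwa [mul_one] at this

theorem isNormalizerPStable_equiv {X Y : Type u} [Group X] [Group Y] (e : X ≃* Y)
    (h : IsNormalizerPStable p X) : IsNormalizerPStable p Y := by
  intro P hP g hg hq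
  have hback : ∀ H : Subgroup Y, (H.map e.symm.toMonoidHom).map e.toMonoidHom = H := fun H => by
    rw [Subgroup.map_map, show e.toMonoidHom.comp e.symm.toMonoidHom = MonoidHom.id Y from
      MonoidHom.ext fun x => e.apply_symm_apply x, Subgroup.map_id]
  set P₀ := P.map e.symm.toMonoidHom with hP₀
  have hN : (Subgroup.normalizer (P₀ : Set X)).map e.toMonoidHom = Subgroup.normalizer (P : Set Y) := by
    rw [Subgroup.map_equiv_normalizer_eq, hback]
  have hg₀ : e.symm g ∈ Subgroup.normalizer (P₀ : Set X) := by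
    obtain ⟨x, hx, hxe⟩ := hN.ge hg
    rwa [← hxe, show e.symm (e.toMonoidHom x) = x from e.symm_apply_apply x]
  have hq₀ : ⁅⁅P₀, Subgroup.zpowers (e.symm g)⁆, Subgroup.zpowers (e.symm g)⁆ = ⊥ := by
    have := congrArg (Subgroup.map e.symm.toMonoidHom) hq
    rw [Subgroup.map_commutator, Subgroup.map_commutator, MonoidHom.map_zpowers, Subgroup.map_bot] at this
    exact this
  have h' := h P₀ (hP.map _) _ hg₀ hq₀
  let ε : ↥(Subgroup.normalizer (P₀ : Set X)) ≃* ↥(Subgroup.normalizer (P : Set Y)) :=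
    (e.subgroupMap (Subgroup.normalizer (P₀ : Set X))).trans (MulEquiv.subgroupCongr hN)
  have hker : ((Subgroup.centralizer (P₀ : Set X)).subgroupOf (Subgroup.normalizer (P₀ : Set X))).map
      (ε : ↥(Subgroup.normalizer (P₀ : Set X)) →* ↥(Subgroup.normalizer (P : Set Y))) =
        (Subgroup.centralizer (P : Set Y)).subgroupOf (Subgroup.normalizer (P : Set Y)) := by
    ext y
    obtain ⟨x, rfl⟩ := ε.surjective y
    constructor
    · rintro ⟨x', hx', hxx⟩
      rw [show x' = x from ε.injective hxx] at hx'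
      refine Subgroup.mem_subgroupOf.2 (Subgroup.mem_centralizer_iff.2 fun t ht => ?_)
      obtain ⟨t₀, ht₀, rfl⟩ := (hback P).ge ht
      show e t₀ * e (x : X) = e (x : X) * e t₀
      have h1 : t₀ * (x : X) = (x : X) * t₀ := Subgroup.mem_centralizer_iff.1 hx' t₀ ht₀
      rw [← map_mul, ← map_mul, h1]
    · intro hx
      refine ⟨x, Subgroup.mem_subgroupOf.2 (Subgroup.mem_centralizer_iff.2 fun t₀ ht₀ => e.injective ?_), rfl⟩
      rw [map_mul, map_mul]
      exact Subgroup.mem_centralizer_iff.1 (Subgroup.mem_subgroupOf.1 hx) (e t₀) ((hback P).le ⟨t₀, ht₀, rfl⟩)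
  have h2 := Cores.pCore_map_mulEquiv (QuotientGroup.congr _ _ ε hker) p
  rw [← h2]
  refine ⟨_, h', ?_⟩
  exact congrArg (QuotientGroup.mk' _) (Subtype.ext (e.apply_symm_apply g))

theorem normal_of_pStable [Finite G] [Fact p.Prime]
    (hst : ∀ (K R : Subgroup G) [(R.subgroupOf K).Normal], IsNormalizerPStable p (↥K ⧸ R.subgroupOf K))
    (X : Type u) [Group X] [Finite X] (hX : IsSec G X)
    (hC : Subgroup.centralizer ((pCore p X : Subgroup X) : Set X) ≤ pCore p X) (S : Sylow p X) :
    (inducedFunctor Cfsg.kInfLower (S : Subgroup X)).Normal ∧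
      (inducedFunctor Cfsg.kInfUpper (S : Subgroup X)).Normal := by
  by_contra hn
  obtain ⟨g, -, -, -, -, hg⟩ := Cfsg.Agent.S1983.result S (not_and_or.1 hn)
  obtain ⟨N, hN, hNs⟩ := hg hC
  obtain ⟨K, R, hR, ⟨e⟩⟩ := (hX.of_surjective (QuotientGroup.mk' N) (QuotientGroup.mk'_surjective N)).exists_equiv
  exact hNs (isNormalizerPStable_equiv e (hst K R))

end Cfsg.Agent.FunctorControl
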