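/-
Normal subgroups of index `p` from transfer control.

Main results (namespace `Cfsg.Agent.FunctorControl`): `exists_index_of_dvd_abelianization`,
`exists_normal_index_of_not_le`, `exists_normal_index_of_control`.
-/
import Cfsg.Agent.Lib.FunctorControl.Transfer

set_option autoImplicit false
open Cfsg
open scoped commutatorElement

namespace Cfsg.Agent.FunctorControl

universe u

variable {G : Type u} [Group G] {p : ℕ}

theorem exists_index_of_dvd_abelianization [Finite G] [Fact p.Prime] (h : p ∣ Nat.card (Abelianization G)) :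
    ∃ N : Subgroup G, N.Normal ∧ N.index = p := by
  have hp : p.Prime := Fact.out
  set R := (powMonoidHom p : Abelianization G →* Abelianization G).range with hR
  have hne : R ≠ ⊤ := by
    intro e
    have hinj : Function.Injective (powMonoidHom p : Abelianization G →* Abelianization G) :=
      Finite.injective_iff_surjective.2 (MonoidHom.range_eq_top.1 e)
    obtain ⟨x, hx⟩ := exists_prime_orderOf_dvd_card' p h
    have h1 : x = 1 := hinj (by simp [powMonoidHom_apply, ← hx, pow_orderOf_eq_one])
    rw [h1, orderOf_one] at hx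
    exact hp.one_lt.ne hx
  have hB : IsPGroup p (Abelianization G ⧸ R) := fun x => by
    obtain ⟨y, rfl⟩ := QuotientGroup.mk_surjective x
    exact ⟨1, by rw [pow_one, ← QuotientGroup.mk_pow, QuotientGroup.eq_one_iff]; exact ⟨y, rfl⟩⟩
  obtain ⟨n, hn⟩ := IsPGroup.iff_card.1 hB
  obtain ⟨m, rfl⟩ : ∃ m, n = m + 1 := by
    cases n with
    | zero => exact absurd (Subgroup.index_eq_one.1 (by rw [Subgroup.index_eq_card, hn, pow_zero])) hne
    | succ m => exact ⟨m, rfl⟩
  obtain ⟨K, hK⟩ := Sylow.exists_subgroup_card_pow_prime p (n := m) (hn ▸ pow_dvd_pow p m.le_succ)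
  have hKi : K.index = p := by
    have := K.card_mul_index
    rw [hK, hn, pow_succ] at this
    exact Nat.eq_of_mul_eq_mul_left (pow_pos hp.pos m) this
  refine ⟨(K.comap (QuotientGroup.mk' R)).comap Abelianization.of, inferInstance, ?_⟩
  rw [Subgroup.index_comap_of_surjective _ QuotientGroup.mk_surjective,
    Subgroup.index_comap_of_surjective _ (QuotientGroup.mk'_surjective R), hKi]

theorem exists_normal_index_of_not_le [Finite G] [Fact p.Prime] (S : Sylow p G)
    (h : ¬ (S : Subgroup G) ≤ commutator G) : ∃ N : Subgroup G, N.Normal ∧ N.index = p := by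
  obtain ⟨x, hx, hxG⟩ := SetLike.not_le_iff_exists.1 h
  refine exists_index_of_dvd_abelianization ?_
  have hne : (Abelianization.of x : Abelianization G) ≠ 1 := fun e => hxG (by
    rwa [← MonoidHom.mem_ker, Abelianization.ker_of] at e)
  obtain ⟨k, hk⟩ := IsPGroup.iff_orderOf.1 S.isPGroup' ⟨x, hx⟩
  rw [Subgroup.orderOf_mk] at hk
  have h1 : orderOf (Abelianization.of x : Abelianization G) ∣ p ^ k := hk ▸ orderOf_map_dvd _ x
  obtain ⟨j, -, hj⟩ := (Nat.dvd_prime_pow (Fact.out : p.Prime)).1 h1
  cases j with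
  | zero => exact absurd (orderOf_eq_one_iff.1 (by rwa [pow_zero] at hj)) hne
  | succ j => exact ((dvd_pow_self p j.succ_ne_zero).trans hj.symm.dvd).trans (orderOf_dvd_natCard _)

/-- If a functor controls transfer in every section and the `p'`-elements of `N(S)` centralize `S`, there is
a normal subgroup of index `p`. -/
theorem exists_normal_index_of_control [Finite G] [Fact p.Prime] {W : ∀ (Q : Type u) [Group Q], Subgroup Q}
    (hW : IsCharPFunctor.{u} p W)
    (hctl : ∀ (X : Type u) [Group X] [Finite X], IsSec G X → ControlsTransferIn p (inducedFunctor (G := X) W) ⊤) :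
    ∀ (X : Type u) [Group X] [Finite X], IsSec G X → ∀ S : Sylow p X, (S : Subgroup X) ≠ ⊥ →
      (∀ g ∈ Subgroup.normalizer ((S : Subgroup X) : Set X), (orderOf g).Coprime p →
        g ∈ Subgroup.centralizer ((S : Subgroup X) : Set X)) → ∃ N : Subgroup X, N.Normal ∧ N.index = p := by
  suffices key : ∀ (n : ℕ) (X : Type u) [Group X] [Finite X], Nat.card X = n → IsSec G X → ∀ S : Sylow p X,
      (S : Subgroup X) ≠ ⊥ → (∀ g ∈ Subgroup.normalizer ((S : Subgroup X) : Set X), (orderOf g).Coprime p →
        g ∈ Subgroup.centralizer ((S : Subgroup X) : Set X)) → ∃ N : Subgroup X, N.Normal ∧ N.index = p from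
    fun X _ _ hX S => key _ X rfl hX S
  intro n
  induction n using Nat.strong_induction_on with
  | _ n ih =>
  intro X _ _ hn hX S hS hN
  have hp : p.Prime := Fact.out
  have hcj := isConjugacyFunctor_induced (G := X) hW
  set H := Subgroup.normalizer ((inducedFunctor W (S : Subgroup X) : Subgroup X) : Set X) with hHdef
  have hSH : (S : Subgroup X) ≤ H := AlperinFamily.le_normalizer_functor hcj S.isPGroup'
  by_cases hH : H = ⊤
  · -- `W S` is normal
    haveI hWn : (inducedFunctor W (S : Subgroup X)).Normal := Subgroup.normalizer_eq_top_iff.1 hH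
    set P := inducedFunctor W (S : Subgroup X) with hPdef
    set q := QuotientGroup.mk' P with hq
    have hqs : Function.Surjective q := QuotientGroup.mk'_surjective P
    have hPS : P ≤ (S : Subgroup X) := inducedFunctor_le W _
    by_cases hSP : (S : Subgroup X) ≤ P
    · -- `S` is normal with centralizing `p'`-elements
      haveI hSn : (S : Subgroup X).Normal := le_antisymm hPS hSP ▸ hWn
      refine exists_normal_index_of_not_le S fun hle => ?_
      have hlt : ⁅(S : Subgroup X), (S : Subgroup X)⁆ < (S : Subgroup X) := by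
        haveI : Group.IsNilpotent ↥(S : Subgroup X) := S.isPGroup'.isNilpotent
        haveI : Nontrivial ↥(S : Subgroup X) := (Subgroup.nontrivial_iff_ne_bot _).2 hS
        refine lt_of_le_of_ne (Subgroup.le_normalizer_iff_commutator_le_right.1 Subgroup.le_normalizer) fun e => ?_
        refine (IsSolvable.commutator_lt_top_of_nontrivial ↥(S : Subgroup X)).ne ?_
        apply Subgroup.map_injective (S : Subgroup X).subtype_injective
        rw [Subgroup.map_subtype_commutator, e, ← MonoidHom.range_eq_map, Subgroup.range_subtype]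
      refine hlt.not_ge ?_
      have h1 : (S : Subgroup X) ≤ ⁅(⊤ : Subgroup X), (⊤ : Subgroup X)⁆ ⊓ (S : Subgroup X) := le_inf hle le_rfl
      rw [← commutator_def, ← Transfer.focalSubgroup_eq_of_coprime _ (Transfer.coprime_index_relIndex_sylow S),
        Subgroup.focalSubgroup_def] at h1
      refine h1.trans ((Subgroup.closure_le _).2 ?_)
      rintro _ ⟨-, x, hx, u, rfl⟩
      obtain ⟨k, m, hm, hkm⟩ := Nat.exists_eq_pow_mul_and_not_dvd (orderOf_pos u).ne' p hp.ne_one
      have hco : (p ^ k).Coprime m := (hp.coprime_iff_not_dvd.2 hm).pow_left k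
      obtain ⟨a, b, hab⟩ : ∃ a b : ℤ, (p ^ k : ℕ) * a + (m : ℕ) * b = 1 :=
        ⟨Nat.gcdA (p ^ k) m, Nat.gcdB (p ^ k) m, by rw [← Nat.gcd_eq_gcd_ab, hco]; rfl⟩
      have hu : u = (u ^ m) ^ b * (u ^ p ^ k) ^ a := by
        rw [← zpow_natCast, ← zpow_natCast u (p ^ k), ← zpow_mul, ← zpow_mul, ← zpow_add, add_comm, hab, zpow_one]
      have h1 : (u ^ m) ^ b ∈ (S : Subgroup X) := by
        refine Subgroup.zpow_mem _ ?_ b
        have hpg : IsPGroup p ↥(Subgroup.zpowers (u ^ m)) :=
          IsPGroup.of_card_dvd_pow (n := k) (by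
            rw [Nat.card_zpowers]
            exact orderOf_dvd_of_pow_eq_one (by rw [← pow_mul, mul_comm, ← hkm, pow_orderOf_eq_one]))
        obtain ⟨Q, hQ⟩ := hpg.exists_le_sylow
        letI := Sylow.unique_of_normal S hSn
        rw [Subsingleton.elim Q S] at hQ
        exact hQ (Subgroup.mem_zpowers _)
      have h2 : (u ^ p ^ k) ^ a ∈ Subgroup.centralizer ((S : Subgroup X) : Set X) := by
        refine Subgroup.zpow_mem _ (hN _ ?_ ?_) a
        · rw [Subgroup.normalizer_eq_top (H := (S : Subgroup X))]; trivial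
        · rw [orderOf_pow_of_dvd (pow_ne_zero k hp.ne_zero) (hkm ▸ dvd_mul_right _ _), hkm,
            Nat.mul_div_cancel_left _ (pow_pos hp.pos k)]
          exact (hp.coprime_iff_not_dvd.2 hm).symm
      set s := (u ^ m) ^ b
      set c := (u ^ p ^ k) ^ a
      have hc : c * x⁻¹ * c⁻¹ = x⁻¹ := by
        rw [← Subgroup.mem_centralizer_iff.1 h2 _ (inv_mem hx), mul_inv_cancel_right]
      have h3 : ⁅x, s⁆ ∈ ⁅(S : Subgroup X), (S : Subgroup X)⁆ := Subgroup.commutator_mem_commutator hx h1
      have e : ⁅x, u⁆ = ⁅x, s⁆ := by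
        rw [hu, commutatorElement_def, commutatorElement_def]
        calc x * (s * c) * x⁻¹ * (s * c)⁻¹ = x * s * (c * x⁻¹ * c⁻¹) * s⁻¹ := by group
          _ = x * s * x⁻¹ * s⁻¹ := by rw [hc]
      rw [SetLike.mem_coe, e]
      exact h3
    have hP : P ≠ ⊥ := (hcj _ S.isPGroup').2.1 hS
    have hS' : ((S : Subgroup X).map q) ≠ ⊥ := fun e => hSP (by
      rwa [Subgroup.map_eq_bot_iff, hq, QuotientGroup.ker_mk'] at e)
    obtain ⟨N, hN', hNi⟩ := ih _ (hn ▸ card_quotient_lt hP) (X ⧸ P) rfl (hX.of_surjective q hqs)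
      (S.mapSurjective hqs) hS' (fun g hg hgo => by
        obtain ⟨g, rfl⟩ := hqs g
        obtain ⟨k, m, hm, hkm⟩ := Nat.exists_eq_pow_mul_and_not_dvd (orderOf_pos g).ne' p hp.ne_one
        have hgN : g ∈ Subgroup.normalizer ((S : Subgroup X) : Set X) := by
          have hcm : ((S : Subgroup X).map q).comap q = (S : Subgroup X) := by
            rw [Subgroup.comap_map_eq, hq, QuotientGroup.ker_mk', sup_eq_left.2 hPS]
          rw [← hcm, ← Subgroup.comap_normalizer_eq_of_le_range (by rw [MonoidHom.range_eq_top.2 hqs]; exact le_top)]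
          exact hg
        have h2 := hN (g ^ p ^ k) (Subgroup.pow_mem _ hgN _) (by
          rw [orderOf_pow_of_dvd (pow_ne_zero k hp.ne_zero) (hkm ▸ dvd_mul_right _ _), hkm,
            Nat.mul_div_cancel_left _ (pow_pos hp.pos k)]
          exact (hp.coprime_iff_not_dvd.2 hm).symm)
        have h3 : q g ∈ Subgroup.zpowers (q (g ^ p ^ k)) := by
          rw [map_pow]
          obtain ⟨t, ht⟩ := exists_pow_eq_self_of_coprime ((hgo.pow_right k).symm)
          exact ⟨(t : ℤ), by simpa [zpow_natCast] using ht⟩
        refine (Subgroup.zpowers_le.2 ?_) h3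
        refine Subgroup.mem_centralizer_iff.2 ?_
        rintro _ ⟨y, hy, rfl⟩
        rw [← map_mul, ← map_mul, Subgroup.mem_centralizer_iff.1 h2 y hy])
    exact ⟨N.comap q, hN'.comap q, by rw [Subgroup.index_comap_of_surjective _ hqs, hNi]⟩
  · obtain ⟨N, hNn, hNi⟩ := ih _ (hn ▸ card_lt_of_ne_top hH) ↥H rfl (hX.subgroup H) (S.subtype hSH) (by
        rw [Sylow.coe_subtype]
        intro e
        refine hS ?_
        rw [← Subgroup.map_subgroupOf_eq_of_le hSH, e, Subgroup.map_bot])
      (fun g hg hgo => by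
        rw [Sylow.coe_subtype] at hg ⊢
        rw [← Subgroup.subgroupOf_normalizer_eq hSH] at hg
        have := hN g hg (by rwa [Subgroup.orderOf_coe])
        exact Subgroup.mem_centralizer_iff.2 fun y hy => Subtype.ext (Subgroup.mem_centralizer_iff.1 this y hy))
    refine exists_normal_index_of_not_le S fun hle => ?_
    have h1 : (S : Subgroup X) ≤ (commutator ↥H).map H.subtype := by
      rw [Subgroup.map_subtype_commutator]
      calc (S : Subgroup X) ≤ (S : Subgroup X) ⊓ commutator X := le_inf le_rfl hle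
        _ = _ := commutator_inf_eq hW (hctl X hX) S
        _ ≤ _ := inf_le_right
    have h2 : commutator ↥H ≤ N := by
      haveI := hNn
      haveI : IsCyclic (↥H ⧸ N) := isCyclic_of_prime_card (p := p) (by rw [← Subgroup.index_eq_card, hNi])
      rw [commutator_def, Subgroup.commutator_le]
      intro a _ b _
      rw [← QuotientGroup.eq_one_iff, ← QuotientGroup.mk'_apply, map_commutatorElement,
        commutatorElement_eq_one_iff_mul_comm]
      letI := IsCyclic.commGroup (α := ↥H ⧸ N)
      exact mul_comm _ _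
    have h3 : (S.subtype hSH : Subgroup ↥H) ≤ N := by
      intro y hy
      rw [Sylow.coe_subtype] at hy
      obtain ⟨z, hz, hze⟩ := h1 hy
      exact (Subtype.ext hze : z = y) ▸ h2 hz
    have h4 : N.index ∣ (S.subtype hSH : Subgroup ↥H).index := Subgroup.index_dvd_of_le h3
    rw [hNi] at h4
    exact (S.subtype hSH).not_dvd_index h4

end Cfsg.Agent.FunctorControl
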