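/-
Normal `p`-complements through the normalizer of a functor.

Main results (namespace `Cfsg.Agent.FunctorControl`):
* `hasNormalPComplement_induction`: the reduction to `PLocal.Reduced` sections;
* `isNormalizerPStable_of_shape`: sections of `p`-by-abelian `p'`-by-`p` groups are `p`-stable;
* `hasNormalPComplement_of_strongFusion`: controlled fusion and a complement of the normalizer give a complement;
* `isCoatom_of_reduced`: in the reduced case the Sylow subgroup is maximal.
-/
import Cfsg.Agent.Lib.FunctorControl.Sections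
import Cfsg.Agent.Lib.PLocal.PComplement
import Cfsg.Agent.Lib.PLocal.ClosedFactor

set_option autoImplicit false
open Cfsg
open scoped commutatorElement

namespace Cfsg.Agent.FunctorControl

universe u

variable {p : ℕ} [Fact p.Prime] {W : ∀ (Q : Type u) [Group Q], Subgroup Q}

theorem hnpc_of_normalizer_le {X : Type u} [Group X] {U V : Subgroup X} (h : U ≤ V) [Finite X]
    (hV : Cfsg.HasNormalPComplement p V) : Cfsg.HasNormalPComplement p U :=
  PLocal.hnpc_of_le h hV

theorem hnpc_normalizer_subgroup {X : Type u} [Group X] [Finite X] (hW : IsCharPFunctor.{u} p W) {S M : Subgroup X}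
    (hS : IsPGroup p S) (hSM : S ≤ M)
    (h : Cfsg.HasNormalPComplement p ↥(Subgroup.normalizer ((inducedFunctor W S : Subgroup X) : Set X))) :
    Cfsg.HasNormalPComplement p
      ↥(Subgroup.normalizer ((inducedFunctor W (S.subgroupOf M) : Subgroup ↥M) : Set ↥M)) := by
  have hmap : (inducedFunctor W (S.subgroupOf M)).map M.subtype = inducedFunctor W S := by
    have hp' : IsPGroup p ↥(S.subgroupOf M) := hS.comap_subtype
    rw [← map_inducedFunctor (P := S.subgroupOf M) hW M.subtype M.subtype_injective hp',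
      Subgroup.map_subgroupOf_eq_of_le hSM]
  refine Transfer.hasNormalPComplement_of_injective h
    ((M.subtype.comp (Subgroup.normalizer ((inducedFunctor W (S.subgroupOf M) : Subgroup ↥M) : Set ↥M)).subtype).codRestrict
      _ fun x => ?_) fun a b hab => ?_
  · rw [← hmap]
    exact Subgroup.le_normalizer_map M.subtype ⟨x, x.2, rfl⟩
  · refine Subtype.ext (Subtype.ext ?_)
    have := congrArg Subtype.val hab
    exact this

theorem hnpc_normalizer_of_char {X : Type u} [Group X] [Finite X] (hW : IsCharPFunctor.{u} p W) (R : Sylow p X)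
    (hR : (R : Subgroup X) ≠ ⊥)
    (hloc : ∀ Y : Subgroup ↥(R : Subgroup X), Y.Characteristic → Y ≠ ⊥ →
      Cfsg.HasNormalPComplement p ↥(Subgroup.normalizer (Y.map (R : Subgroup X).subtype : Set X))) :
    Cfsg.HasNormalPComplement p
      ↥(Subgroup.normalizer ((inducedFunctor W (R : Subgroup X) : Subgroup X) : Set X)) := by
  refine hloc _ (Subgroup.characteristic_iff_map_eq.2 fun e => hW.2 _ _ R.isPGroup' e) ?_
  haveI := (Subgroup.nontrivial_iff_ne_bot _).2 hR
  exact hW.1 _ R.isPGroup' inferInstance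

/-- Normal complement through `N(W(S))`, reduced to the `Reduced` sections. -/
theorem hasNormalPComplement_induction {G : Type u} [Group G] [Finite G] (hW : IsCharPFunctor.{u} p W)
    (hfinal : ∀ (X : Type u) [Group X] [Finite X], IsSec G X → ∀ S : Sylow p X,
      PLocal.Reduced p (S : Subgroup X) →
      Cfsg.HasNormalPComplement p
        ↥(Subgroup.normalizer ((inducedFunctor W (S : Subgroup X) : Subgroup X) : Set X)) → False)
    (X : Type u) [Group X] [Finite X] (hX : IsSec G X) (S : Sylow p X)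
    (hS : Cfsg.HasNormalPComplement p
      ↥(Subgroup.normalizer ((inducedFunctor W (S : Subgroup X) : Subgroup X) : Set X))) :
    Cfsg.HasNormalPComplement p X := by
  obtain ⟨n, hn⟩ : ∃ n, n = Nat.card X := ⟨_, rfl⟩
  induction n using Nat.strong_induction_on generalizing X with
  | _ n IH =>
  subst hn
  by_contra hno
  have hle : ∀ M : Subgroup X, (S : Subgroup X) ≤ M → M ≠ ⊤ → Cfsg.HasNormalPComplement p M := fun M hSM hM =>
    IH _ (PLocal.card_subgroup_lt hM) ↥M (hX.subgroup M) (S.subtype hSM)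
      (by rw [Sylow.coe_subtype]; exact hnpc_normalizer_subgroup hW S.isPGroup' hSM hS) rfl
  have hH : Cfsg.pCore p X ≠ ⊥ := by
    intro hb
    obtain ⟨M, hM, hMno, R, hRne, hR⟩ := PLocal.exists_frobenius_subgroup S hno hle hb
    exact hMno (IH _ (PLocal.card_subgroup_lt hM) ↥M (hX.subgroup M) R (hnpc_normalizer_of_char hW R hRne hR) rfl)
  have hO : Cfsg.pPrimeCore p X = ⊥ := by
    by_contra hne
    haveI : (Cfsg.pPrimeCore p X).Normal := Cores.pPrimeCore_normal p X
    set f := QuotientGroup.mk' (Cfsg.pPrimeCore p X) with hfdef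
    have hf : Function.Surjective f := QuotientGroup.mk'_surjective _
    have hker : (Nat.card f.ker).Coprime p := by
      rw [hfdef, QuotientGroup.ker_mk']
      exact Cores.coprime_card_pPrimeCore p
    have hkd : ¬ p ∣ Nat.card f.ker := (Fact.out : p.Prime).coprime_iff_not_dvd.1 hker.symm
    refine hno (PLocal.hnpc_of_coprime_ker f hf hker ?_)
    refine IH _ (PLocal.card_quotient_lt hne) _ (hX.of_surjective f hf) (S.mapSurjective hf) ?_ rfl
    rw [Sylow.coe_mapSurjective, map_inducedFunctor_of_coprime hW f hkd S.isPGroup',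
      ← map_normalizer_of_coprime f hf hkd (S.isPGroup'.to_le (inducedFunctor_le W _))]
    exact PLocal.hnpc_of_map hS
  haveI : (Cfsg.pCore p X).Normal := Cores.pCore_normal p X
  refine hfinal X hX S (PLocal.reduced_of_quotient S hno hle hH hO ?_) hS
  set f := QuotientGroup.mk' (Cfsg.pCore p X)
  have hf := QuotientGroup.mk'_surjective (Cfsg.pCore p X)
  let Sb : Sylow p (X ⧸ Cfsg.pCore p X) := S.mapSurjective hf
  by_cases hSb : (Sb : Subgroup (X ⧸ Cfsg.pCore p X)) = ⊥
  · exact Transfer.hasNormalPComplement_of_not_dvd fun hd => Sb.ne_bot_of_dvd_card hd hSb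
  refine IH _ (PLocal.card_quotient_lt hH) _ (hX.of_surjective f hf) Sb
    (hnpc_normalizer_of_char hW Sb hSb fun Y hY hYne => ?_) rfl
  set Y0 := Y.map (Sb : Subgroup (X ⧸ Cfsg.pCore p X)).subtype
  have hY0ne : Y0 ≠ ⊥ := fun e => hYne ((Subgroup.map_eq_bot_iff_of_injective _ (Subgroup.subtype_injective _)).1 e)
  have hSY : (S : Subgroup X) ≤ (Subgroup.normalizer (Y0 : Set (X ⧸ Cfsg.pCore p X))).comap f := by
    refine Subgroup.map_le_iff_le_comap.1 ?_
    rw [← Sylow.coe_mapSurjective hf S]
    exact Subgroup.le_normalizer.trans (Cores.normalizer_le_normalizer_map Y)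
  have hne : (Subgroup.normalizer (Y0 : Set (X ⧸ Cfsg.pCore p X))).comap f ≠ ⊤ := by
    intro e
    have hn : Subgroup.normalizer (Y0 : Set (X ⧸ Cfsg.pCore p X)) = ⊤ :=
      Subgroup.comap_injective hf (e.trans (Subgroup.comap_top f).symm)
    refine hY0ne (le_bot_iff.1 ?_)
    have h1 := Cores.le_pCore (Subgroup.normalizer_eq_top_iff.1 hn) ((Sb.isPGroup'.to_subgroup Y).map _)
    rwa [Cores.pCore_quotient_self] at h1
  exact Transfer.hasNormalPComplement_of_surjective (hle _ hSY hne) _
    (f.subgroupComap_surjective_of_surjective _ hf)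

theorem shape_of_section {X : Type u} [Group X] (h : PLocal.PShape p X) {Y : Type u} [Group Y] (hY : IsSec X Y) :
    PLocal.PShape p Y :=
  let ⟨K, f, hf⟩ := hY
  (h.subgroup K).map f hf

theorem isNormalizerPStable_of_shape {G : Type*} [Group G] [Finite G] (hp : p ≠ 2) (h : PLocal.PShape p G) :
    IsNormalizerPStable p G := by
  intro P hP g hg hq
  set N := Subgroup.normalizer (P : Set G)
  have hPN : P ≤ N := Subgroup.le_normalizer
  set P' := P.subgroupOf N with hP'
  haveI : P'.Normal := Subgroup.normal_in_normalizer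
  have hmap : P'.map N.subtype = P := Subgroup.map_subgroupOf_eq_of_le hPN
  have hq' : ⁅⁅P', Subgroup.zpowers (⟨g, hg⟩ : N)⁆, Subgroup.zpowers (⟨g, hg⟩ : N)⁆ = ⊥ := by
    refine (Subgroup.map_eq_bot_iff_of_injective _ N.subtype_injective).1 ?_
    rw [Subgroup.map_commutator, Subgroup.map_commutator, hmap, MonoidHom.map_zpowers]
    exact hq
  have h1 := (h.subgroup N).pStableOn hp P' hP.comap_subtype ⟨g, hg⟩ hq'
  have hC : Subgroup.centralizer (P' : Set N) = (Subgroup.centralizer (P : Set G)).subgroupOf N := by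
    ext x
    rw [Subgroup.mem_subgroupOf, Subgroup.mem_centralizer_iff, Subgroup.mem_centralizer_iff]
    constructor
    · exact fun hx y hy => congrArg Subtype.val (hx ⟨y, hPN hy⟩ (Subgroup.mem_subgroupOf.2 hy))
    · exact fun hx y hy => Subtype.ext (hx y (Subgroup.mem_subgroupOf.1 hy))
  exact Cores.map_pCore_le (QuotientGroup.quotientMulEquivOfEq hC).toMonoidHom
    (QuotientGroup.quotientMulEquivOfEq hC).surjective p ⟨_, h1, rfl⟩

theorem sections_stable_of_shape {X : Type u} [Group X] [Finite X] (hp : p ≠ 2) (h : PLocal.PShape p X)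
    (K R : Subgroup X) [(R.subgroupOf K).Normal] : IsNormalizerPStable p (↥K ⧸ R.subgroupOf K) :=
  isNormalizerPStable_of_shape hp (shape_of_section h (isSec_quotient K R))

/-- Controlled strong fusion in a group with a complement gives a complement. -/
theorem hasNormalPComplement_of_strongFusion {G : Type*} [Group G] [Finite G] {U : Subgroup G}
    (hc : ControlsStrongFusion p U) (hN : Cfsg.HasNormalPComplement p ↥(Subgroup.normalizer (U : Set G))) :
    Cfsg.HasNormalPComplement p G := by
  obtain ⟨T, hUT, hT⟩ := hc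
  set N := Subgroup.normalizer (U : Set G)
  have hTN : (T : Subgroup G) ≤ N := Subgroup.le_normalizer_iff.2 fun t ht u hu => by
    obtain ⟨-, h⟩ := hT (U : Set G) hUT
    obtain ⟨x, hx, he⟩ := h t (by
      rintro _ ⟨a, ha, rfl⟩
      exact (T : Subgroup G).mul_mem ((T : Subgroup G).mul_mem ht (hUT ha)) ((T : Subgroup G).inv_mem ht))
    rw [he u hu]
    exact (Subgroup.mem_normalizer_iff.1 hx u).1 hu
  refine Transfer.hasNormalPComplement_of_local T fun R hR _ n hn hnp => ?_
  have hRT : R ≤ (T : Subgroup G) := hR.1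
  obtain ⟨-, h⟩ := hT (R : Set G) hRT
  obtain ⟨x, hx, he⟩ := h n (by
    rintro _ ⟨a, ha, rfl⟩
    exact hRT ((Subgroup.mem_normalizer_iff.1 hn a).1 ha))
  have hxR : x ∈ Subgroup.normalizer (R : Set G) := by
    refine PLocal.mem_normalizer_iff_map_eq.2 ?_
    conv_rhs => rw [← PLocal.mem_normalizer_iff_map_eq.1 hn]
    exact Subgroup.ext fun y => ⟨fun ⟨a, ha, hy⟩ => ⟨a, ha, (he a ha).trans hy⟩,
      fun ⟨a, ha, hy⟩ => ⟨a, ha, (he a ha).symm.trans hy⟩⟩
  have hk : ∀ k : ℕ, ∀ a ∈ R, n ^ k * a * (n ^ k)⁻¹ = x ^ k * a * (x ^ k)⁻¹ := by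
    intro k
    induction k with
    | zero => simp
    | succ k ih =>
      intro a ha
      have h1 : n ^ k * (n * a * n⁻¹) * (n ^ k)⁻¹ = x ^ k * (x * a * x⁻¹) * (x ^ k)⁻¹ := by
        rw [he a ha]
        exact ih _ ((Subgroup.mem_normalizer_iff.1 hxR a).1 ha)
      simpa [pow_succ, mul_assoc] using h1
  have hpp : p.Prime := Fact.out
  set m := orderOf x with hm
  set a := m.factorization p with ha
  have hcop : (p ^ a).Coprime (orderOf n) := (hnp.symm).pow_left a
  obtain ⟨j, hj⟩ := exists_pow_eq_self_of_coprime hcop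
  set y := (x ^ p ^ a) ^ j with hy
  have hy1 : (orderOf y).Coprime p := by
    refine Nat.Coprime.coprime_dvd_left ((orderOf_pow_dvd j).trans ?_) (Nat.coprime_ordCompl hpp (orderOf_pos x).ne').symm
    rw [orderOf_pow_of_dvd (pow_ne_zero a hpp.ne_zero) (Nat.ordProj_dvd m p)]
  have hy2 : ∀ b ∈ R, y * b * y⁻¹ = n * b * n⁻¹ := fun b hb => by
    rw [hy, ← pow_mul, ← hk (p ^ a * j) b hb, pow_mul, hj]
  have hyN : y ∈ N := N.pow_mem (N.pow_mem hx _) _
  have hyR : y ∈ Subgroup.normalizer (R : Set G) := Subgroup.pow_mem _ (Subgroup.pow_mem _ hxR _) _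
  have hRN : R ≤ N := hRT.trans hTN
  have hyR' : (⟨y, hyN⟩ : N) ∈ Subgroup.normalizer ((R.subgroupOf N : Subgroup N) : Set N) := by
    refine Subgroup.mem_normalizer_iff.2 fun z => ?_
    simp only [Subgroup.mem_subgroupOf, Subgroup.coe_mul, InvMemClass.coe_inv]
    exact Subgroup.mem_normalizer_iff.1 hyR z
  have hyc := Transfer.mem_centralizer_of_coprime hN (Q := R.subgroupOf N)
    ((T.isPGroup'.to_le hRT).comap_subtype) hyR' (by rwa [Subgroup.orderOf_mk])
  refine Subgroup.mem_centralizer_iff.2 fun b hb => ?_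
  have h1 : b * y = y * b :=
    congrArg Subtype.val (Subgroup.mem_centralizer_iff.1 hyc ⟨b, hRN hb⟩ (Subgroup.mem_subgroupOf.2 hb))
  have h2 := hy2 b hb
  rw [← h1, mul_inv_cancel_right] at h2
  calc b * n = (n * b * n⁻¹) * n := by rw [← h2]
    _ = n * b := by group

/-- In the reduced case the Sylow subgroup is a maximal subgroup. -/
theorem isCoatom_of_reduced {G : Type u} [Group G] [Finite G] (S : Sylow p G)
    (hr : PLocal.Reduced p (S : Subgroup G)) : IsCoatom (S : Subgroup G) := by
  refine ⟨fun e => hr.not_complement (Transfer.hasNormalPComplement_of_isPGroup fun g => ?_), fun M hM => ?_⟩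
  · obtain ⟨k, hk⟩ := S.isPGroup' ⟨g, e ▸ Subgroup.mem_top g⟩
    exact ⟨k, congrArg Subtype.val hk⟩
  by_contra hMt
  have hMc := hr.complement_of_ge M hM.le hMt
  haveI : (Cfsg.pCore p G).Normal := Cores.pCore_normal p G
  have hHM : Cfsg.pCore p G ≤ M := (Cores.pCore_le_sylow S).trans hM.le
  have hMp : IsPGroup p M := by
    intro x
    obtain ⟨k, hk⟩ := Transfer.isPGroup_quotient_pResidual (G := M) (p := p) (QuotientGroup.mk x)
    refine ⟨k, ?_⟩
    rw [← QuotientGroup.mk_pow, QuotientGroup.eq_one_iff] at hk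
    have hl := (Transfer.mem_pResidual_iff hMc _).1 hk
    have hc : ((x ^ p ^ k : M) : G) ∈ Subgroup.centralizer (Cfsg.pCore p G : Set G) := by
      refine Subgroup.mem_centralizer_iff.2 fun h hh => ?_
      have h1 := Transfer.mem_centralizer_of_coprime hMc (Q := (Cfsg.pCore p G).subgroupOf M)
        ((Cores.isPGroup_pCore p G).comap_subtype) (g := x ^ p ^ k)
        (Subgroup.le_normalizer_of_normal (K := (⊤ : Subgroup M)) (Subgroup.mem_top _)) hl
      exact congrArg Subtype.val (Subgroup.mem_centralizer_iff.1 h1 ⟨h, hHM hh⟩ (Subgroup.mem_subgroupOf.2 hh))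
    obtain ⟨i, hi⟩ := Cores.isPGroup_pCore p G ⟨_, hr.centralizer_le hc⟩
    have h2 : orderOf ((x ^ p ^ k : M) : G) ∣ p ^ i := orderOf_dvd_of_pow_eq_one (congrArg Subtype.val hi)
    rw [Subgroup.orderOf_coe] at h2
    exact orderOf_eq_one_iff.1 (Nat.eq_one_of_dvd_coprimes (hl.pow_right i) dvd_rfl h2)
  exact hM.not_ge (S.is_maximal' hMp hM.le).le

theorem centralizer_pCore_le_equiv {X Y : Type u} [Group X] [Group Y] (e : X ≃* Y)
    (h : Subgroup.centralizer ((pCore p X : Subgroup X) : Set X) ≤ pCore p X) :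
    Subgroup.centralizer ((pCore p Y : Subgroup Y) : Set Y) ≤ pCore p Y := by
  rw [← Cores.pCore_map_mulEquiv e p]
  intro y hy
  obtain ⟨x, rfl⟩ := e.surjective y
  refine ⟨x, h (Subgroup.mem_centralizer_iff.2 fun z hz => e.injective ?_), rfl⟩
  rw [map_mul, map_mul]
  exact Subgroup.mem_centralizer_iff.1 hy _ ⟨z, hz, rfl⟩

theorem hnpc_quotient_pCore_of_shape {X : Type u} [Group X] [Finite X] (h : PLocal.PShape p X) :
    Cfsg.HasNormalPComplement p (X ⧸ pCore p X) := by
  haveI : (pCore p X).Normal := Cores.pCore_normal p X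
  obtain ⟨H, R, hH, hR, hHp, -, hp', hq⟩ := h.map _ (QuotientGroup.mk'_surjective (pCore p X))
  haveI := hR
  have hH0 : H = ⊥ := le_bot_iff.1 ((Cores.le_pCore hH hHp).trans (Cores.pCore_quotient_self p X).le)
  have hRp : ¬ p ∣ Nat.card R := by
    intro hd
    obtain ⟨x, hx⟩ := exists_prime_orderOf_dvd_card' p hd
    obtain ⟨n, hn, hxn⟩ := hp' x x.2
    rw [hH0, Subgroup.mem_bot, ← SubgroupClass.coe_pow, OneMemClass.coe_eq_one] at hxn
    have h1 := orderOf_dvd_of_pow_eq_one hxn
    rw [hx] at h1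
    exact (Fact.out : p.Prime).one_lt.ne' (Nat.eq_one_of_dvd_coprimes hn.symm dvd_rfl h1)
  obtain ⟨k, hk⟩ := IsPGroup.iff_card.1 (show IsPGroup p ((X ⧸ pCore p X) ⧸ R) from fun q => by
    obtain ⟨g, rfl⟩ := QuotientGroup.mk_surjective q
    obtain ⟨j, hj⟩ := hq g
    exact ⟨j, by rw [← QuotientGroup.mk_pow]; exact (QuotientGroup.eq_one_iff _).2 hj⟩)
  exact Transfer.hasNormalPComplement_of_normal (N := R) ((R.index_eq_card).trans hk)
    (Transfer.hasNormalPComplement_of_not_dvd hRp)

theorem not_normal_of_reduced {X Y : Type u} [Group X] [Finite X] [Group Y] (hW : IsCharPFunctor.{u} p W)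
    (T : Sylow p X) (hr : PLocal.Reduced p (T : Subgroup X))
    (hT : Cfsg.HasNormalPComplement p
      ↥(Subgroup.normalizer ((inducedFunctor W (T : Subgroup X) : Subgroup X) : Set X)))
    (e : X ≃* Y) : ¬ (inducedFunctor W ((T : Subgroup X).map e.toMonoidHom)).Normal := by
  intro hn
  rw [map_inducedFunctor hW e.toMonoidHom e.injective T.isPGroup'] at hn
  have h1 : (inducedFunctor W (T : Subgroup X)).Normal := by
    rw [← Subgroup.comap_map_eq_self_of_injective (f := e.toMonoidHom) e.injective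
      (inducedFunctor W (T : Subgroup X))]
    exact hn.comap _
  exact hr.not_complement (PLocal.hnpc_of_normal_normalizer h1 hT)

end Cfsg.Agent.FunctorControl
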