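/-
Engel elements of degree `p - 1` in groups which are abelian `p'` by `p` on a minimal normal `p`-subgroup.

Main results (namespace `Cfsg.Agent.FunctorControl`):
* `commutator_eq_one_of_nilpotent`: in a linear group a `p`-element `g` with `(g - 1)^(p-1) = 0` centralizes every
  abelian `p'`-group it normalizes;
* `mem_centralizer_of_engel`: such elements centralize the minimal normal subgroup.
-/
import Cfsg.Agent.Lib.FunctorControl.Norm
import Cfsg.Agent.Lib.PLocal.PShape

set_option autoImplicit false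
open Cfsg
open scoped commutatorElement

namespace Cfsg.Agent.FunctorControl

variable {p : ℕ}

/-- A faithful representation in characteristic `p`: `(γ - 1)^(p-1) = 0` forces `γ` to centralize every abelian
normal `p'`-subgroup. -/
theorem commutator_eq_one_of_nilpotent [Fact p.Prime] {G E : Type*} [Group G] [Finite G] [Ring E]
    (hp : (p : E) = 0) (ρ : G →* E) (hρ : Function.Injective ρ) (R : Subgroup G) [R.Normal]
    (hab : ∀ x ∈ R, ∀ y ∈ R, x * y = y * x) (hcop : ∀ x ∈ R, (orderOf x).Coprime p) {g : G}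
    (hg : (ρ g - 1) ^ (p - 1) = 0) : ∀ r ∈ R, ⁅r, g⁆ = 1 := by
  classical
  have hp' : p.Prime := Fact.out
  have hcj : ∀ (x : G), ∀ y ∈ R, x * y * x⁻¹ ∈ R := fun x y hy => (inferInstance : R.Normal).conj_mem y hy x
  have hnorm : ∀ (x : G), (ρ x - 1) ^ (p - 1) = 0 → ∑ i ∈ Finset.range p, ρ (x ^ i) = 0 := fun x hx => by
    simp only [map_pow]
    exact geom_sum_eq_zero_of_nilpotent hp (ρ x) hx
  have hgp : g ^ p = 1 := hρ (by
    rw [map_one, map_pow, ← sub_eq_zero, ← mul_geom_sum, geom_sum_eq_zero_of_nilpotent hp (ρ g) hg, mul_zero])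
  have hfix0 : ∀ r ∈ R, g * ⁅r, g⁆ = ⁅r, g⁆ * g → ⁅r, g⁆ = 1 := by
    intro r hr hc
    have hb : ⁅r, g⁆ ∈ R := by
      rw [commutatorElement_def, mul_assoc, mul_assoc, ← mul_assoc g]
      exact R.mul_mem hr (hcj g _ (R.inv_mem hr))
    have hw : ⁅r, g⁆⁻¹ = g * r * g⁻¹ * r⁻¹ := by simp [commutatorElement_def, mul_assoc]
    have h1 := PLocal.conj_pow_eq hw (Commute.inv_right hc) p
    rw [hgp, one_mul, inv_one, mul_one, right_eq_mul, inv_pow, inv_eq_one] at h1
    exact orderOf_eq_one_iff.1 (Nat.eq_one_of_dvd_coprimes (hcop _ hb) dvd_rfl (orderOf_dvd_of_pow_eq_one h1))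
  let φ : ↥R →* ↥R :=
    { toFun := fun r => ⟨(r : G) * (g * (r : G) * g⁻¹)⁻¹, R.mul_mem r.2 (R.inv_mem (hcj g _ r.2))⟩
      map_one' := by ext; simp
      map_mul' := fun a b => by
        ext
        show (a : G) * b * (g * (a * b) * g⁻¹)⁻¹ = a * (g * a * g⁻¹)⁻¹ * (b * (g * b * g⁻¹)⁻¹)
        rw [show g * ((a : G) * b) * g⁻¹ = (g * a * g⁻¹) * (g * b * g⁻¹) by group, mul_inv_rev,
          mul_assoc (a : G) b, ← mul_assoc (b : G), hab _ (R.mul_mem b.2 (R.inv_mem (hcj g _ b.2))) _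
            (R.inv_mem (hcj g _ a.2))]
        simp only [mul_assoc] }
  set B : Subgroup G := φ.range.map R.subtype with hBdef
  have hBmem : ∀ y, y ∈ B ↔ ∃ r ∈ R, y = ⁅r, g⁆ := by
    intro y
    constructor
    · rintro ⟨_, ⟨r, rfl⟩, rfl⟩
      exact ⟨r, r.2, by simp [φ, commutatorElement_def, mul_assoc]⟩
    · rintro ⟨r, hr, rfl⟩
      exact ⟨_, ⟨⟨r, hr⟩, rfl⟩, by simp [φ, commutatorElement_def, mul_assoc]⟩
  have hBR : B ≤ R := Subgroup.map_subtype_le _
  have hBconj : ∀ y ∈ B, g * y * g⁻¹ ∈ B := by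
    intro y hy
    obtain ⟨r, hr, rfl⟩ := (hBmem y).1 hy
    exact (hBmem _).2 ⟨g * r * g⁻¹, hcj g r hr, by simp [commutatorElement_def, mul_assoc]⟩
  have hfix : ∀ y ∈ B, ∀ i, i < p → 0 < i → Commute y (g ^ i) → y = 1 := by
    intro y hy i hi hi0 hc
    have hco : i.Coprime (orderOf g) :=
      Nat.Coprime.coprime_dvd_right (orderOf_dvd_of_pow_eq_one hgp)
        (Nat.coprime_comm.1 (hp'.coprime_iff_not_dvd.2 fun hd => absurd (Nat.le_of_dvd hi0 hd) (by omega)))
    obtain ⟨m, hm⟩ := exists_pow_eq_self_of_coprime hco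
    have hc' : Commute y g := hm ▸ hc.pow_right m
    obtain ⟨r, hr, rfl⟩ := (hBmem y).1 hy
    exact hfix0 r hr hc'.symm.eq
  let π : ℕ → G → G := fun i y => (y * g) ^ i * (g ^ i)⁻¹
  have hπ : ∀ y ∈ B, ∀ i, π i y ∈ B := by
    intro y hy i
    induction i with
    | zero => simp [π]
    | succ i ih =>
      have : π (i + 1) y = y * (g * π i y * g⁻¹) := by
        simp only [π, pow_succ', mul_inv_rev, mul_assoc]
      rw [this]
      exact B.mul_mem hy (hBconj _ ih)
  have hπinj : ∀ i, i < p → 0 < i → Set.InjOn (π i) (B : Set G) := by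
    intro i hi hi0 y hy z hz he
    have he' : (y * g) ^ i = (z * g) ^ i := mul_right_cancel he
    have hcy : Commute (y * g) ((y * g) ^ i) := Commute.self_pow _ i
    have hcz : Commute (z * g) ((y * g) ^ i) := he' ▸ Commute.self_pow _ i
    have hq : Commute (y * z⁻¹) (π i y * g ^ i) := by
      have := hcy.mul_left hcz.inv_left
      rw [show y * g * (z * g)⁻¹ = y * z⁻¹ by group] at this
      simpa [π] using this
    have hyz : y * z⁻¹ ∈ B := B.mul_mem hy (B.inv_mem hz)
    have hc2 : Commute (y * z⁻¹) (π i y) := hab _ (hBR hyz) _ (hBR (hπ y hy i))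
    have hc3 : Commute (y * z⁻¹) (g ^ i) := by
      have := (hc2.inv_right).mul_right hq
      rwa [inv_mul_cancel_left] at this
    exact mul_inv_eq_one.1 (hfix _ hyz i hi hi0 hc3)
  set S : Finset G := (B : Set G).toFinite.toFinset with hS
  have hmemS : ∀ y, y ∈ S ↔ y ∈ B := fun y => Set.Finite.mem_toFinset _
  set σ : E := ∑ y ∈ S, ρ y with hσ
  have hzero : ∀ y ∈ S, ∑ i ∈ Finset.range p, ρ (π i y) * ρ (g ^ i) = 0 := by
    intro y hy
    obtain ⟨r, hr, rfl⟩ := (hBmem y).1 ((hmemS y).1 hy)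
    have h1 : ⁅r, g⁆ * g = r * g * r⁻¹ := by simp [commutatorElement_def, mul_assoc]
    have h2 : (ρ (⁅r, g⁆ * g) - 1) ^ (p - 1) = 0 := by
      have hu : ρ r * ρ r⁻¹ = 1 := by rw [← map_mul, mul_inv_cancel, map_one]
      have hu' : ρ r⁻¹ * ρ r = 1 := by rw [← map_mul, inv_mul_cancel, map_one]
      have key : ∀ k, (ρ r * (ρ g - 1) * ρ r⁻¹) ^ k = ρ r * (ρ g - 1) ^ k * ρ r⁻¹ := by
        intro k
        induction k with
        | zero => simp [hu]
        | succ k ih =>
          rw [pow_succ, pow_succ, ih]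
          simp only [mul_assoc]
          rw [← mul_assoc (ρ r⁻¹) (ρ r), hu', one_mul]
      rw [h1, map_mul, map_mul, show ρ r * ρ g * ρ r⁻¹ - 1 = ρ r * (ρ g - 1) * ρ r⁻¹ by
        rw [mul_sub, sub_mul, mul_one, hu], key, hg, mul_zero, zero_mul]
    refine Eq.trans (Finset.sum_congr rfl fun i _ => ?_) (hnorm _ h2)
    rw [← map_mul]
    simp [π]
  have hsum : ∑ i ∈ Finset.range p, (∑ y ∈ S, ρ (π i y)) * ρ (g ^ i) = 0 := by
    simp only [Finset.sum_mul]
    rw [Finset.sum_comm]
    exact Finset.sum_eq_zero hzero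
  have hperm : ∀ i, i < p → 0 < i → ∑ y ∈ S, ρ (π i y) = σ := by
    intro i hi hi0
    have himg : S.image (π i) = S := by
      refine Finset.eq_of_subset_of_card_le (fun z hz => ?_) (le_of_eq ?_)
      · obtain ⟨y, hy, rfl⟩ := Finset.mem_image.1 hz
        exact (hmemS _).2 (hπ y ((hmemS y).1 hy) i)
      · rw [Finset.card_image_of_injOn]
        intro y hy z hz
        exact hπinj i hi hi0 ((hmemS y).1 hy) ((hmemS z).1 hz)
    conv_rhs => rw [hσ, ← himg]
    rw [Finset.sum_image]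
    intro y hy z hz
    exact hπinj i hi hi0 ((hmemS y).1 hy) ((hmemS z).1 hz)
  have hσc : σ = (S.card : E) := by
    have hsplit : ∀ F : ℕ → E, ∑ i ∈ Finset.range p, F i = (∑ i ∈ Finset.range (p - 1), F (i + 1)) + F 0 := by
      intro F
      conv_lhs => rw [← Nat.sub_add_cancel hp'.one_lt.le]
      exact Finset.sum_range_succ' _ _
    have hN := hnorm g hg
    rw [hsplit] at hN hsum
    rw [Finset.sum_congr rfl (fun i hi => by rw [hperm (i + 1) (by
      have := Finset.mem_range.1 hi; omega) i.succ_pos]), ← Finset.mul_sum, eq_neg_of_add_eq_zero_left hN] at hsum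
    simp only [π, pow_zero, inv_one, mul_one, map_one, Finset.sum_const, nsmul_eq_mul, mul_neg] at hsum
    exact neg_add_eq_zero.1 hsum
  intro r hr
  have hb : ⁅r, g⁆ ∈ B := (hBmem _).2 ⟨r, hr, rfl⟩
  have hmul : ρ ⁅r, g⁆ * σ = σ := by
    rw [hσ, Finset.mul_sum]
    refine Finset.sum_bij (fun y _ => ⁅r, g⁆ * y) (fun y hy => (hmemS _).2 (B.mul_mem hb ((hmemS y).1 hy)))
      (fun y _ z _ he => mul_left_cancel he)
      (fun z hz => ⟨⁅r, g⁆⁻¹ * z, (hmemS _).2 (B.mul_mem (B.inv_mem hb) ((hmemS z).1 hz)), mul_inv_cancel_left _ _⟩)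
      fun y _ => (map_mul ρ _ _).symm
  rw [hσc] at hmul
  have hcard : S.card = Nat.card B := by
    rw [hS, ← Set.ncard_eq_toFinset_card (B : Set G), ← Nat.card_coe_set_eq]
    rfl
  have hco : (Nat.card B).Coprime p := by
    rw [Nat.coprime_comm, hp'.coprime_iff_not_dvd]
    intro hd
    obtain ⟨x, hx⟩ := exists_prime_orderOf_dvd_card' p hd
    have h1 := hcop (x : G) (hBR x.2)
    rw [Subgroup.orderOf_coe, hx, Nat.coprime_self] at h1
    exact hp'.one_lt.ne' h1
  obtain ⟨n, hn⟩ : ∃ n : E, (S.card : E) * n = 1 := by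
    refine ⟨((Nat.gcdA (Nat.card B) p : ℤ) : E), ?_⟩
    have h1 := congrArg (fun z : ℤ => (z : E)) (Nat.gcd_eq_gcd_ab (Nat.card B) p)
    simp only [Int.cast_natCast, Int.cast_add, Int.cast_mul, hp, zero_mul, add_zero] at h1
    rw [hcard, ← h1, Nat.coprime_iff_gcd_eq_one.1 hco, Nat.cast_one]
  apply hρ
  rw [map_one, ← mul_one (ρ ⁅r, g⁆), ← hn, ← mul_assoc, hmul]

theorem mem_centralizer_of_engel {G : Type*} [Group G] [Finite G] [Fact p.Prime] {V : Subgroup G} [V.Normal]
    (hV : Cfsg.IsElementaryAbelian p V) (hmin : ∀ K : Subgroup G, K.Normal → K ≤ V → K = ⊥ ∨ K = V)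
    (R : Subgroup G) [R.Normal]
    (hab : ∀ x ∈ R, ∀ y ∈ R, ⁅x, y⁆ ∈ Subgroup.centralizer (V : Set G))
    (hp' : ∀ x ∈ R, ∃ n : ℕ, n.Coprime p ∧ x ^ n ∈ Subgroup.centralizer (V : Set G))
    (hquot : ∀ g : G, ∃ k : ℕ, g ^ p ^ k ∈ R) {g : G}
    (hg : Cfsg.iterCommutator V (Subgroup.zpowers g) (p - 1) = ⊥) : g ∈ Subgroup.centralizer (V : Set G) := by
  classical
  haveI : IsMulCommutative V := hV.1
  letI : CommGroup V := { (inferInstance : Group V) with mul_comm := fun a b => hV.1.is_comm.comm a b }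
  let c : G →* MulAut V := MulAut.conjNormal
  let ρ : G →* AddMonoid.End (Additive V) :=
    { toFun := fun x => (c x).toMonoidHom.toAdditive
      map_one' := by rw [map_one]; rfl
      map_mul' := fun x y => by rw [map_mul]; rfl }
  have hker : ρ.ker = Subgroup.centralizer (V : Set G) := by
    ext x
    rw [MonoidHom.mem_ker, Subgroup.mem_centralizer_iff]
    constructor
    · intro h v hv
      have h1 := congrArg (fun f : AddMonoid.End (Additive V) => ((Additive.toMul (f (Additive.ofMul ⟨v, hv⟩)) : V) : G)) h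
      change x * v * x⁻¹ = v at h1
      exact (mul_inv_eq_iff_eq_mul.1 h1).symm
    · intro h
      refine AddMonoidHom.ext fun v => ?_
      obtain ⟨v, rfl⟩ := Additive.ofMul.surjective v
      refine congrArg Additive.ofMul (Subtype.ext ?_)
      show x * (v : G) * x⁻¹ = v
      rw [← h v v.2, mul_inv_cancel_right]
  have hp0 : (p : AddMonoid.End (Additive V)) = 0 := by
    refine AddMonoidHom.ext fun x => ?_
    obtain ⟨x, rfl⟩ := Additive.ofMul.surjective x
    rw [← nsmul_one]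
    show Additive.ofMul (x ^ p) = Additive.ofMul 1
    exact congrArg Additive.ofMul (Subtype.ext (hV.2 x x.2))
  have hnil : ∀ (k : ℕ) (x : ↥V), ∃ y : ↥V, (y : G) ∈ Cfsg.iterCommutator V (Subgroup.zpowers g) k ∧
      ((ρ g - 1) ^ k) (Additive.ofMul x) = Additive.ofMul y := by
    intro k
    induction k with
    | zero => intro x; exact ⟨x, x.2, by simp⟩
    | succ k ih =>
      intro x
      obtain ⟨y, hy, hye⟩ := ih x
      refine ⟨c g y * y⁻¹, ?_, ?_⟩
      · show g * y * g⁻¹ * (y : G)⁻¹ ∈ ⁅Cfsg.iterCommutator V (Subgroup.zpowers g) k, Subgroup.zpowers g⁆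
        have := inv_mem (Subgroup.commutator_mem_commutator hy (Subgroup.mem_zpowers g))
        simpa [commutatorElement_def, mul_assoc] using this
      · rw [pow_succ', AddMonoid.End.coe_mul, Function.comp_apply, hye]
        show Additive.ofMul (c g y) - Additive.ofMul y = _
        rw [← ofMul_div, div_eq_mul_inv]
  have hnil' : (ρ g - 1) ^ (p - 1) = 0 := by
    refine AddMonoidHom.ext fun x => ?_
    obtain ⟨x, rfl⟩ := Additive.ofMul.surjective x
    obtain ⟨y, hy, hye⟩ := hnil (p - 1) x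
    refine hye.trans ?_
    rw [hg, Subgroup.mem_bot] at hy
    show Additive.ofMul y = Additive.ofMul 1
    exact congrArg Additive.ofMul (Subtype.ext hy)
  set C := Subgroup.centralizer (V : Set G) with hC
  haveI : C.Normal := hker ▸ MonoidHom.normal_ker ρ
  set f := QuotientGroup.mk' C
  let ρ' : G ⧸ C →* AddMonoid.End (Additive V) := QuotientGroup.lift C ρ hker.ge
  have hρ' : Function.Injective ρ' := by
    refine (injective_iff_map_eq_one ρ').2 fun x hx => ?_
    obtain ⟨x, rfl⟩ := QuotientGroup.mk_surjective x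
    exact (QuotientGroup.eq_one_iff x).2 (hker ▸ hx)
  haveI : (R.map f).Normal := (inferInstance : R.Normal).map f (QuotientGroup.mk'_surjective C)
  have hcomm : ∀ r ∈ R, ⁅r, g⁆ ∈ C := by
    intro r hr
    rw [← QuotientGroup.eq_one_iff, ← QuotientGroup.mk'_apply, map_commutatorElement]
    refine commutator_eq_one_of_nilpotent hp0 ρ' hρ' (R.map f) ?_ ?_ hnil' _ (Subgroup.mem_map_of_mem f hr)
    · rintro _ ⟨x, hx, rfl⟩ _ ⟨y, hy, rfl⟩
      rw [← commutatorElement_eq_one_iff_mul_comm, ← map_commutatorElement]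
      exact (QuotientGroup.eq_one_iff _).2 (hab x hx y hy)
    · rintro _ ⟨x, hx, rfl⟩
      obtain ⟨n, hn, hxn⟩ := hp' x hx
      refine Nat.Coprime.coprime_dvd_left (orderOf_dvd_of_pow_eq_one ?_) hn
      rw [← map_pow]
      exact (QuotientGroup.eq_one_iff _).2 hxn
  set R' := R.map f with hR'
  have hD : (Subgroup.centralizer (R' : Set (G ⧸ C))).Normal := Subgroup.normalizer_eq_top_iff.1 (top_le_iff.1
    ((Subgroup.normalizer_eq_top_iff.2 inferInstance).ge.trans (PLocal.normalizer_le_normalizer_centralizer R')))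
  have hgR : f g ∈ Subgroup.centralizer (R' : Set (G ⧸ C)) := by
    refine Subgroup.mem_centralizer_iff.2 ?_
    rintro _ ⟨x, hx, rfl⟩
    rw [← commutatorElement_eq_one_iff_mul_comm, ← map_commutatorElement]
    exact (QuotientGroup.eq_one_iff _).2 (hcomm x hx)
  set D := Subgroup.centralizer (R' : Set (G ⧸ C))
  haveI := hD
  let P : Sylow p D := default
  set Z := R'.subgroupOf D
  haveI : Z.Normal := inferInstance
  have hsup : (P : Subgroup D) ⊔ Z = ⊤ := by
    rw [← Subgroup.index_eq_one]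
    haveI : IsPGroup p (D ⧸ Z) := fun q => by
      obtain ⟨⟨d, hd⟩, rfl⟩ := QuotientGroup.mk_surjective q
      obtain ⟨x, rfl⟩ := QuotientGroup.mk'_surjective C d
      obtain ⟨k, hk⟩ := hquot x
      exact ⟨k, (QuotientGroup.eq_one_iff ((⟨f x, hd⟩ : D) ^ p ^ k)).2
        (Subgroup.mem_subgroupOf.2 ⟨x ^ p ^ k, hk, map_pow f x _⟩)⟩
    obtain ⟨n, hn⟩ := IsPGroup.iff_card.1 this
    refine Nat.eq_one_of_dvd_coprimes
      (((Fact.out : p.Prime).coprime_iff_not_dvd.2 P.not_dvd_index).pow_left n) ?_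
      (Subgroup.index_dvd_of_le le_sup_left)
    rw [← hn, ← Subgroup.index_eq_card]
    exact Subgroup.index_dvd_of_le le_sup_right
  haveI hPn : (P : Subgroup D).Normal := by
    refine Subgroup.normalizer_eq_top_iff.1 (top_le_iff.1 (hsup.ge.trans (sup_le Subgroup.le_normalizer ?_)))
    refine le_trans (fun z hz => Subgroup.mem_centralizer_iff.2 fun y _ => Subtype.ext ?_)
      (Subgroup.centralizer_le_normalizer _)
    exact (Subgroup.mem_centralizer_iff.1 y.2 z (Subgroup.mem_subgroupOf.1 hz)).symm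
  haveI : (P : Subgroup D).Characteristic := P.characteristic_of_normal hPn
  set Q := (P : Subgroup D).map D.subtype
  haveI hQn : Q.Normal := Cores.map_subtype_normal_of_characteristic D _
  have hQ : Q.comap f ≤ C := by
    haveI : (Q.comap f).Normal := hQn.comap f
    refine PLocal.le_centralizer_comm (Subgroup.commutator_eq_bot_iff_le_centralizer.1 ?_)
    rcases hmin ⁅V, Q.comap f⁆ inferInstance (Subgroup.commutator_le_left V _) with h | h
    · exact h
    · rw [h]
      refine PLocal.eq_bot_of_le_commutator_pgroup (A := Q.comap f)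
        (fun v => ⟨1, Subtype.ext (by simpa using hV.2 v v.2)⟩) Subgroup.le_normalizer_of_normal (fun a ha => ?_)
        le_rfl h.ge
      obtain ⟨k, hk⟩ := (P.isPGroup'.map D.subtype) ⟨f a, ha⟩
      refine ⟨k, (QuotientGroup.eq_one_iff _).1 ?_⟩
      show f (a ^ p ^ k) = 1
      rw [map_pow]
      exact congrArg Subtype.val hk
  have hgp : (⟨f g, hgR⟩ : D) ^ p = 1 := by
    refine Subtype.ext (hρ' ?_)
    show ρ' (f g ^ p) = ρ' 1
    rw [map_one, map_pow, ← sub_eq_zero, ← mul_geom_sum]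
    show _ * ∑ i ∈ Finset.range p, ρ g ^ i = 0
    rw [geom_sum_eq_zero_of_nilpotent hp0 (ρ g) hnil', mul_zero]
  have hp1 : IsPGroup p ↥(Subgroup.zpowers (⟨f g, hgR⟩ : D)) := fun y => ⟨1, Subtype.ext (by
    obtain ⟨m, hm⟩ := y.2
    simp only [pow_one, SubgroupClass.coe_pow, ← hm, OneMemClass.coe_one]
    rw [← zpow_natCast, ← zpow_mul, mul_comm, zpow_mul, zpow_natCast, hgp, one_zpow])⟩
  exact hQ ⟨_, (P.3 (IsPGroup.to_sup_of_normal_right hp1 P.isPGroup') le_sup_right).le
    (Subgroup.mem_sup_left (Subgroup.mem_zpowers _)), rfl⟩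

end Cfsg.Agent.FunctorControl
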