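/-
Consequences of the reduced case for normal `p`-complement criteria.

Main results (namespace `Cfsg.Agent.FunctorControl`):
* `commutator_le_of_engel`: in `PShape` groups Engel degree `p - 1` on a chief factor is trivial action;
* `hnpc_normalizer_of_centralizes`: if the `p`-regular elements of `N(K)` centralize `K`, `N(K)` has a complement.
-/
import Cfsg.Agent.Lib.FunctorControl.NormalComplement
import Cfsg.Agent.Lib.FunctorControl.PSolvEngel
import Cfsg.Agent.Lib.FunctorControl.Engel
import Cfsg.Agent.Lib.KInfinity.Functor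
import Cfsg.Agent.Lib.KInfinity.Chief
import Cfsg.Agent.S1978

set_option autoImplicit false
open Cfsg
open scoped commutatorElement

namespace Cfsg.Agent.FunctorControl

universe u

variable {p : ℕ} [Fact p.Prime]

theorem map_iterCommutator_hom {G H : Type*} [Group G] [Group H] (f : G →* H) (U A : Subgroup G) :
    ∀ n, (iterCommutator U A n).map f = iterCommutator (U.map f) (A.map f) n := by
  intro n
  induction n with
  | zero => rfl
  | succ n ih =>
    show (⁅_, _⁆ : Subgroup G).map f = ⁅_, _⁆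
    rw [Subgroup.map_commutator, ih]

theorem commutator_le_of_engel {G : Type*} [Group G] [Finite G] (h : PLocal.PShape p G) {U V : Subgroup G}
    (hchief : IsChiefFactor U V) (hU : U ≤ pCore p G) {g : G}
    (hg : iterCommutator U (Subgroup.zpowers g) (p - 1) ≤ V) : ⁅U, Subgroup.zpowers g⁆ ≤ V := by
  obtain ⟨hlt, hUn, hVn, hmax⟩ := hchief
  haveI := hUn
  haveI := hVn
  set f := QuotientGroup.mk' V with hf
  have hfs : Function.Surjective f := QuotientGroup.mk'_surjective V
  set M := U.map f
  haveI hMn : M.Normal := hUn.map f hfs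
  have hUp : IsPGroup p U := (Cores.isPGroup_pCore p G).to_le hU
  haveI : (pCore p G).Normal := Cores.pCore_normal p G
  have hM : IsElementaryAbelian p M := by
    have hab : ⁅U, U⁆ ≤ V := (Subgroup.commutator_mono le_rfl hU).trans
      (KInfinity.commutator_le_of_chief ⟨hlt, hUn, hVn, hmax⟩ hUp (Cores.isPGroup_pCore p G))
    refine ⟨⟨⟨?_⟩⟩, ?_⟩
    · rintro ⟨_, a, ha, rfl⟩ ⟨_, b, hb, rfl⟩
      refine Subtype.ext ?_
      show f a * f b = f b * f a
      rw [← commutatorElement_eq_one_iff_mul_comm, ← map_commutatorElement]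
      exact (QuotientGroup.eq_one_iff _).2 (hab (Subgroup.commutator_mem_commutator ha hb))
    · rintro _ ⟨a, ha, rfl⟩
      rw [← map_pow]
      exact (QuotientGroup.eq_one_iff _).2 (pow_mem_of_chief ⟨hlt, hUn, hVn, hmax⟩ hUp hab a ha)
  have hmin : ∀ K : Subgroup (G ⧸ V), K.Normal → K ≤ M → K = ⊥ ∨ K = M := by
    intro K hK hle
    have hVK : V ≤ K.comap f := (QuotientGroup.ker_mk' V).ge.trans (f.ker_le_comap K)
    have hKU : K.comap f ≤ U := (Subgroup.comap_mono hle).trans (by
      rw [Subgroup.comap_map_eq, hf, QuotientGroup.ker_mk']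
      exact sup_le le_rfl hlt.le)
    rcases hmax (K.comap f) (hK.comap f) hVK hKU with e | e
    · left
      rw [← Subgroup.map_comap_eq_self_of_surjective hfs K, e, hf, QuotientGroup.map_mk'_self]
    · right
      rw [← Subgroup.map_comap_eq_self_of_surjective hfs K, e]
  obtain ⟨H, R, hH, hR, hHp, hab, hp', hq⟩ := h.map f hfs
  haveI := hR
  haveI := hH
  have hHC : H ≤ Subgroup.centralizer (M : Set (G ⧸ V)) :=
    PLocal.conjAction_trivial_of_pgroup_minimal (hUp.map f) hHp hmin
  have hmem := mem_centralizer_of_engel hM hmin R (fun x hx y hy => hHC (hab x hx y hy))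
    (fun x hx => (hp' x hx).imp fun n hn => ⟨hn.1, hHC hn.2⟩) hq (g := f g) (by
      rw [← MonoidHom.map_zpowers, ← map_iterCommutator_hom, Subgroup.map_eq_bot_iff, hf, QuotientGroup.ker_mk']
      exact hg)
  refine KInfinity.commutator_zpowers_le fun u hu => ?_
  rw [← QuotientGroup.eq_one_iff, ← QuotientGroup.mk'_apply, ← hf, map_commutatorElement,
    commutatorElement_eq_one_iff_mul_comm]
  exact Subgroup.mem_centralizer_iff.1 hmem (f u) ⟨u, hu, rfl⟩

theorem hnpc_normalizer_of_centralizes {G : Type u} [Group G] [Finite G] (S : Sylow p G)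
    (h : ∀ g ∈ Subgroup.normalizer ((inducedFunctor kInfLower (S : Subgroup G) : Subgroup G) : Set G),
      (orderOf g).Coprime p →
        g ∈ Subgroup.centralizer ((inducedFunctor kInfLower (S : Subgroup G) : Subgroup G) : Set G)) :
    Cfsg.HasNormalPComplement p
      ↥(Subgroup.normalizer ((inducedFunctor kInfLower (S : Subgroup G) : Subgroup G) : Set G)) := by
  set W := inducedFunctor kInfLower (S : Subgroup G) with hWdef
  set N := Subgroup.normalizer (W : Set G)
  have hW := KInfinity.isCharPFunctor_kInfLower (p := p)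
  haveI : (kInfLower ↥(S : Subgroup G)).Characteristic :=
    Subgroup.characteristic_iff_map_eq.2 fun e => hW.2 _ _ S.isPGroup' e
  have hSN : (S : Subgroup G) ≤ N := Subgroup.le_normalizer.trans
    (Cores.normalizer_le_normalizer_map (kInfLower ↥(S : Subgroup G)))
  have hself : ∀ x ∈ (S : Subgroup G), x ∈ Subgroup.centralizer (W : Set G) → x ∈ W := fun x hx hc =>
    ⟨⟨x, hx⟩, (Cfsg.Agent.S1978.result S.isPGroup').1 (Subgroup.mem_centralizer_iff.2 fun w hw =>
      Subtype.ext (Subgroup.mem_centralizer_iff.1 hc _ ⟨w, hw, rfl⟩)), rfl⟩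
  refine Transfer.hasNormalPComplement_of_local (S.subtype hSN) fun R hR _ n hn hnp => ?_
  have hRS : ∀ q ∈ R, (q : G) ∈ (S : Subgroup G) := fun q hq => by
    have := hR.1 hq
    rwa [Sylow.coe_subtype, Subgroup.mem_subgroupOf] at this
  have hnG : (orderOf (n : G)).Coprime p := by rwa [Subgroup.orderOf_coe]
  have hnC := h n n.2 hnG
  have hCN : N ≤ Subgroup.normalizer ((Subgroup.centralizer (W : Set G) : Subgroup G) : Set G) :=
    PLocal.normalizer_le_normalizer_centralizer W
  refine Subgroup.mem_centralizer_iff.2 fun q hq => Subtype.ext ?_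
  set w : G := (n : G) * q * (n : G)⁻¹ * (q : G)⁻¹ with hw
  have hwS : w ∈ (S : Subgroup G) := (S : Subgroup G).mul_mem
    (hRS _ ((Subgroup.mem_normalizer_iff.1 hn q).1 hq)) ((S : Subgroup G).inv_mem (hRS q hq))
  have hwC : w ∈ Subgroup.centralizer (W : Set G) := by
    have h1 : (q : G) * (n : G)⁻¹ * (q : G)⁻¹ ∈ Subgroup.centralizer (W : Set G) :=
      (Subgroup.mem_normalizer_iff.1 (hCN q.2) _).1 (Subgroup.inv_mem _ hnC)
    rw [hw, mul_assoc, mul_assoc, ← mul_assoc (q : G)]
    exact Subgroup.mul_mem _ hnC h1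
  have hnw : (n : G) * w = w * n := (Subgroup.mem_centralizer_iff.1 hnC w (hself w hwS hwC)).symm
  have h2 := PLocal.conj_pow_eq hw hnw (orderOf (n : G))
  rw [pow_orderOf_eq_one, one_mul, inv_one, mul_one, right_eq_mul] at h2
  obtain ⟨k, hk⟩ := S.isPGroup' ⟨w, hwS⟩
  have h3 := pow_gcd_eq_one.2 ⟨h2, (congrArg Subtype.val hk : w ^ p ^ k = 1)⟩
  rw [Nat.coprime_iff_gcd_eq_one.1 (hnG.pow_right k), pow_one, hw, mul_inv_eq_one] at h3
  show (q : G) * n = n * q
  exact (mul_inv_eq_iff_eq_mul.1 h3).symm

end Cfsg.Agent.FunctorControl
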