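/-
Induction behind local-to-global control by a pair of functors `W` (containing the centre) and `V` (central).

Main results (namespace `Cfsg.Agent.FunctorControl`):
* `Cen p R`: every `p`-subgroup centralizing `R` lies in `R` (inherited by overgroups and conjugates);
* `GoodSub p S U`: `U ≤ S` contains the centre of some `Cen` subgroup of `N_S(U)`;
* `pair_induction`: a property of conjugation maps `(T, g)` with `T, g T g⁻¹ ≤ S` holds everywhere as soon as it
  is stable under the obvious operations and can be settled inside `N(U)` for good fully normalized `U`.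
-/
import Cfsg.Agent.Lib.AlperinFamily.Control

set_option autoImplicit false
open Cfsg
open scoped commutatorElement

namespace Cfsg.Agent.FunctorControl

open AlperinFamily

variable {G : Type*} [Group G] {p : ℕ}

/-- Every `p`-subgroup centralizing `R` lies in `R`. -/
def Cen (p : ℕ) (R : Subgroup G) : Prop :=
  ∀ C : Subgroup G, IsPGroup p C → C ≤ Subgroup.centralizer (R : Set G) → C ≤ R

theorem Cen.mono {R R' : Subgroup G} (h : Cen p R) (hle : R ≤ R') : Cen p R' := fun C hC hCc =>
  (h C hC (hCc.trans (Subgroup.centralizer_le hle))).trans hle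

theorem cj_inv_cj (g : G) (H : Subgroup G) : cj g⁻¹ (cj g H) = H := by
  rw [cj_cj, inv_mul_cancel, cj_one]

theorem cj_cj_inv (g : G) (H : Subgroup G) : cj g (cj g⁻¹ H) = H := by
  rw [cj_cj, mul_inv_cancel, cj_one]

theorem cj_centralizer_le (g : G) (R : Subgroup G) :
    cj g (Subgroup.centralizer (R : Set G)) ≤ Subgroup.centralizer ((cj g R : Subgroup G) : Set G) := by
  rintro _ ⟨c, hc, rfl⟩
  rw [Subgroup.mem_centralizer_iff]
  rintro _ ⟨r, hr, rfl⟩
  have := Subgroup.mem_centralizer_iff.1 hc r hr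
  calc g * r * g⁻¹ * (g * c * g⁻¹) = g * (r * c) * g⁻¹ := by group
    _ = g * (c * r) * g⁻¹ := by rw [this]
    _ = g * c * g⁻¹ * (g * r * g⁻¹) := by group

theorem cj_centralizer (g : G) (R : Subgroup G) :
    cj g (Subgroup.centralizer (R : Set G)) = Subgroup.centralizer ((cj g R : Subgroup G) : Set G) := by
  refine le_antisymm (cj_centralizer_le g R) ?_
  have := Subgroup.map_mono (f := (MulAut.conj g).toMonoidHom) (cj_centralizer_le g⁻¹ (cj g R))
  rw [cj_inv_cj] at this
  calc Subgroup.centralizer ((cj g R : Subgroup G) : Set G)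
      = cj g (cj g⁻¹ (Subgroup.centralizer ((cj g R : Subgroup G) : Set G))) := (cj_cj_inv g _).symm
    _ ≤ cj g (Subgroup.centralizer (R : Set G)) := this

theorem Cen.cj {R : Subgroup G} (h : Cen p R) (g : G) : Cen p (cj g R) := by
  intro C hC hCc
  have h1 : AlperinFamily.cj g⁻¹ C ≤ R := by
    refine h _ (hC.map _) ?_
    rw [← cj_centralizer] at hCc
    exact (Subgroup.map_mono hCc).trans (cj_inv_cj g _).le
  calc C = AlperinFamily.cj g (AlperinFamily.cj g⁻¹ C) := (cj_cj_inv g C).symm
    _ ≤ AlperinFamily.cj g R := Subgroup.map_mono h1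

/-- `U ≤ S` contains the centre of a `Cen` subgroup of `N_S(U)`. -/
def GoodSub (p : ℕ) (S U : Subgroup G) : Prop :=
  U ≤ S ∧ ∃ R : Subgroup G, R ≤ S ⊓ Subgroup.normalizer (U : Set G) ∧ Cen p R ∧
    R ⊓ Subgroup.centralizer (R : Set G) ≤ U

theorem GoodSub.map {S U : Subgroup G} (h : GoodSub p S U) {g : G}
    (hg : cj g (S ⊓ Subgroup.normalizer (U : Set G)) ≤ S) : GoodSub p S (cj g U) := by
  obtain ⟨hUS, R, hR, hC, hZ⟩ := h
  refine ⟨(Subgroup.map_mono (le_inf hUS Subgroup.le_normalizer)).trans hg, cj g R,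
    le_inf ((Subgroup.map_mono hR).trans hg) (cj_le_normalizer g (hR.trans inf_le_right)), hC.cj g, ?_⟩
  rw [← cj_centralizer, ← cj_inf]
  exact Subgroup.map_mono hZ

theorem GoodSub.center_le {S : Sylow p G} {U : Subgroup G} (h : GoodSub p (S : Subgroup G) U) :
    (S : Subgroup G) ⊓ Subgroup.centralizer ((S : Subgroup G) : Set G) ≤ U := by
  obtain ⟨-, R, hR, hC, hZ⟩ := h
  have hc : (S : Subgroup G) ⊓ Subgroup.centralizer ((S : Subgroup G) : Set G) ≤
      Subgroup.centralizer (R : Set G) :=
    inf_le_right.trans (Subgroup.centralizer_le (hR.trans inf_le_left))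
  exact (le_inf (hC _ S.isPGroup'.to_inf_left hc) hc).trans hZ

theorem cen_inf_normalizer {S U : Subgroup G} (h : GoodSub p S U) :
    Cen p (S ⊓ Subgroup.normalizer (U : Set G)) :=
  let ⟨_, _, hR, hC, _⟩ := h
  hC.mono hR

/-- The skeleton of both local-to-global theorems. `Φ T g` is a property of the map `a ↦ g a g⁻¹` on `T`; `Ψ U` is
the corresponding property of `N(U)`. -/
theorem pair_induction [Finite G] [Fact p.Prime] (S : Sylow p G) (Φ : Subgroup G → G → Prop)
    (Ψ : Subgroup G → Prop)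
    (hbase : ∀ g ∈ Subgroup.normalizer ((S : Subgroup G) : Set G), Φ (S : Subgroup G) g)
    (hmono : ∀ (T T' : Subgroup G) (g : G), T ≤ T' → T' ≤ (S : Subgroup G) → Φ T' g → Φ T g)
    (hcomp : ∀ (T : Subgroup G) (g g' : G), Φ T g → Φ (cj g T) g' → Φ T (g' * g))
    (hinv : ∀ (T : Subgroup G) (g : G), T ≤ (S : Subgroup G) → cj g T ≤ (S : Subgroup G) → Φ T g → Φ (cj g T) g⁻¹)
    (hcongr : ∀ (T : Subgroup G) (g g' : G), (∀ a ∈ T, g * a * g⁻¹ = g' * a * g'⁻¹) → Φ T g → Φ T g')
    (hstep : ∀ U : Subgroup G, GoodSub p (S : Subgroup G) U → Ψ U → ∀ T : Subgroup G,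
      T ≤ (S : Subgroup G) ⊓ Subgroup.normalizer (U : Set G) →
      ∀ k ∈ Subgroup.normalizer (U : Set G), k ∈ Subgroup.normalizer (T : Set G) → Φ T k)
    (hmain : ∀ U : Subgroup G, GoodSub p (S : Subgroup G) U → FN p (S : Subgroup G) U →
      (∀ U' : Subgroup G, GoodSub p (S : Subgroup G) U' →
        Nat.card ((S : Subgroup G) ⊓ Subgroup.normalizer (U : Set G) : Subgroup G) <
          Nat.card ((S : Subgroup G) ⊓ Subgroup.normalizer (U' : Set G) : Subgroup G) → Ψ U') → Ψ U)
    (htrans : ∀ (U : Subgroup G) (h : G), GoodSub p (S : Subgroup G) U →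
      cj h ((S : Subgroup G) ⊓ Subgroup.normalizer (U : Set G)) ≤ (S : Subgroup G) →
      Φ ((S : Subgroup G) ⊓ Subgroup.normalizer (U : Set G)) h → Ψ (cj h U) → Ψ U)
    {T : Subgroup G} {g : G} (hT : T ≤ (S : Subgroup G)) (hg : cj g T ≤ (S : Subgroup G)) : Φ T g := by
  suffices key : ∀ k n : ℕ, Nat.card G ≤ n + k →
      (∀ (T : Subgroup G) (g : G), n ≤ Nat.card T → T ≤ (S : Subgroup G) → cj g T ≤ (S : Subgroup G) → Φ T g) ∧
      (∀ U : Subgroup G, n ≤ Nat.card ((S : Subgroup G) ⊓ Subgroup.normalizer (U : Set G) : Subgroup G) →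
        GoodSub p (S : Subgroup G) U → Ψ U) from
    (key (Nat.card G) 0 (by omega)).1 T g (Nat.zero_le _) hT hg
  intro k
  induction k with
  | zero =>
    intro n hn
    have hA : ∀ (T : Subgroup G) (g : G), n ≤ Nat.card T → T ≤ (S : Subgroup G) →
        cj g T ≤ (S : Subgroup G) → Φ T g := fun T g hnT hT hg => by
      have hTS : T = (S : Subgroup G) := le_antisymm hT fun x _ => by
        rw [Subgroup.eq_top_of_le_card T (by omega)]; trivial
      subst hTS
      exact hbase g (cj_eq_iff.1 (Subgroup.eq_of_le_of_card_ge hg (by rw [card_cj])))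
    refine ⟨hA, fun U hnU hU => ?_⟩
    have := Subgroup.card_le_card_group ((S : Subgroup G) ⊓ Subgroup.normalizer (U : Set G))
    obtain ⟨h, hh, hfn⟩ := exists_conj_into_fn S
      (S.isPGroup'.to_inf_left (K := Subgroup.normalizer (U : Set G))) inf_le_right
    refine htrans U h hU hh (hA _ _ hnU inf_le_left hh) (hmain _ (hU.map hh) hfn fun U' _ hlt => ?_)
    have h1 : Nat.card ((S : Subgroup G) ⊓ Subgroup.normalizer (U : Set G) : Subgroup G) ≤
        Nat.card ((S : Subgroup G) ⊓ Subgroup.normalizer ((cj h U : Subgroup G) : Set G) : Subgroup G) :=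
      card_cj h _ ▸ Subgroup.card_le_of_le (le_inf hh (cj_le_normalizer h inf_le_right))
    have := Subgroup.card_le_card_group ((S : Subgroup G) ⊓ Subgroup.normalizer (U' : Set G))
    omega
  | succ k ih =>
    intro n hn
    obtain ⟨hA', hB'⟩ := ih (n + 1) (by omega)
    have hA : ∀ (T : Subgroup G) (g : G), n ≤ Nat.card T → T ≤ (S : Subgroup G) →
        cj g T ≤ (S : Subgroup G) → Φ T g := by
      intro T g hnT hT hg
      rcases eq_or_ne T (S : Subgroup G) with hTS | hTS
      · subst hTS
        exact hbase g (cj_eq_iff.1 (Subgroup.eq_of_le_of_card_ge hg (by rw [card_cj])))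
      have hT' : cj g T ≠ (S : Subgroup G) := fun he =>
        hTS (Subgroup.eq_of_le_of_card_ge hT (by rw [← he, card_cj]))
      have hlt : Nat.card T < Nat.card ((S : Subgroup G) ⊓ Subgroup.normalizer (T : Set G) : Subgroup G) :=
        Set.ncard_lt_ncard (exists_lt_inf_normalizer S.isPGroup' hT hTS) (Set.toFinite _)
      have hlt' : Nat.card (cj g T) <
          Nat.card ((S : Subgroup G) ⊓ Subgroup.normalizer ((cj g T : Subgroup G) : Set G) : Subgroup G) :=
        Set.ncard_lt_ncard (exists_lt_inf_normalizer S.isPGroup' hg hT') (Set.toFinite _)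
      rw [card_cj] at hlt'
      obtain ⟨h, hh, hfn⟩ := exists_conj_into_fn S
        (S.isPGroup'.to_inf_left (K := Subgroup.normalizer (T : Set G))) inf_le_right
      set T0 := cj h T with hT0
      have hT0S : T0 ≤ (S : Subgroup G) := (Subgroup.map_mono (le_inf hT Subgroup.le_normalizer)).trans hh
      obtain ⟨k₀, hk₀, hh', hT0'⟩ := exists_conj_sylow_step S.isPGroup' hfn
        (S.isPGroup'.to_inf_left (K := Subgroup.normalizer ((cj g T : Subgroup G) : Set G))) inf_le_right
        (g := h * g⁻¹) (T := cj g T) (by rw [← cj_cj, cj_inv_cj])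
      set h' := k₀ * (h * g⁻¹) with hh'def
      have hΦh : Φ T h := hmono _ _ _ (le_inf hT Subgroup.le_normalizer) inf_le_left
        (hA' _ _ (by omega) inf_le_left hh)
      have hΦh' : Φ (cj g T) h' := hmono _ _ _ (le_inf hg Subgroup.le_normalizer) inf_le_left
        (hA' _ _ (by omega) inf_le_left hh')
      -- the middle map
      set C := (S : Subgroup G) ⊓ Subgroup.centralizer (T0 : Set G) with hC
      have hsyl : Fusion.IsSylowIn p C (Subgroup.centralizer (T0 : Set G)) := by
        have h1 := (isSylowIn_of_fn S.isPGroup' hfn).inf_normal (N := Subgroup.centralizer (T0 : Set G))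
          (Subgroup.centralizer_le_normalizer _) (fun a ha c hc => by
            have := cj_centralizer_le a T0 (conj_mem_cj a hc)
            rwa [cj_eq_iff.2 ha] at this)
        rwa [inf_assoc, inf_eq_right.2 ((Subgroup.centralizer_le_normalizer _) :
          Subgroup.centralizer (T0 : Set G) ≤ Subgroup.normalizer (T0 : Set G))] at h1
      have hkC : cj k₀ C ≤ Subgroup.centralizer (T0 : Set G) := by
        refine (Subgroup.map_mono inf_le_right).trans ?_
        rw [show Subgroup.map (MulAut.conj k₀).toMonoidHom (Subgroup.centralizer (T0 : Set G)) =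
          cj k₀ (Subgroup.centralizer (T0 : Set G)) from rfl, cj_centralizer, cj_eq_iff.2 hk₀]
      obtain ⟨c, hc, hck⟩ := hsyl.exists_conj_le (hsyl.isPGroup.map _) hkC
      have hCk : cj (c * k₀) C = C := by
        refine Subgroup.eq_of_le_of_card_ge ?_ (by rw [card_cj])
        rw [← cj_cj]
        rintro _ ⟨x, hx, rfl⟩
        exact hck x hx
      have hcN : c ∈ Subgroup.normalizer (T0 : Set G) := (Subgroup.centralizer_le_normalizer _) hc
      have hk1T : c * k₀ ∈ Subgroup.normalizer (T0 : Set G) := Subgroup.mul_mem _ hcN hk₀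
      set U := T0 ⊔ C with hU
      have hk1U : c * k₀ ∈ Subgroup.normalizer (U : Set G) := by
        rw [← cj_eq_iff, hU, cj, Subgroup.map_sup]
        exact congrArg₂ (· ⊔ ·) (cj_eq_iff.2 hk1T) hCk
      have hCenU : Cen p U := by
        intro D hD hDc
        have hDT : D ≤ Subgroup.centralizer (T0 : Set G) := hDc.trans (Subgroup.centralizer_le (SetLike.coe_subset_coe.2 le_sup_left))
        have hDC : D ≤ Subgroup.centralizer (C : Set G) := hDc.trans (Subgroup.centralizer_le (SetLike.coe_subset_coe.2 le_sup_right))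
        have hsup : IsPGroup p (C ⊔ D : Subgroup G) :=
          hsyl.isPGroup.to_sup_of_normal_left' hD (hDC.trans (Subgroup.centralizer_le_normalizer _))
        exact (le_sup_right.trans (hsyl.2.2 _ le_sup_left (sup_le hsyl.le hDT) hsup).le).trans le_sup_right
      have hUgood : GoodSub p (S : Subgroup G) U :=
        ⟨sup_le hT0S inf_le_left, U, le_inf (sup_le hT0S inf_le_left) Subgroup.le_normalizer, hCenU, inf_le_left⟩
      have hcard : n + 1 ≤ Nat.card ((S : Subgroup G) ⊓ Subgroup.normalizer (U : Set G) : Subgroup G) := by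
        have h1 : T0 ≠ (S : Subgroup G) := fun he =>
          hTS (Subgroup.eq_of_le_of_card_ge hT (by rw [← he, card_cj]))
        have h2 : Nat.card T0 < Nat.card ((S : Subgroup G) ⊓ Subgroup.normalizer (T0 : Set G) : Subgroup G) :=
          Set.ncard_lt_ncard (exists_lt_inf_normalizer S.isPGroup' hT0S h1) (Set.toFinite _)
        have h3 : (S : Subgroup G) ⊓ Subgroup.normalizer (T0 : Set G) ≤
            (S : Subgroup G) ⊓ Subgroup.normalizer (U : Set G) := by
          refine le_inf inf_le_left fun x hx => ?_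
          rw [← cj_eq_iff, hU, cj, Subgroup.map_sup]
          refine congrArg₂ (· ⊔ ·) (cj_eq_iff.2 hx.2) (?_ : cj x C = C)
          rw [hC, cj_inf, cj_eq_iff.2 (Subgroup.le_normalizer hx.1), cj_centralizer, cj_eq_iff.2 hx.2]
        have := Subgroup.card_le_of_le h3
        have h4 : Nat.card T0 = Nat.card T := card_cj h T
        omega
      have hΦk : Φ T0 k₀ := by
        refine hcongr _ (c * k₀) _ (fun a ha => ?_) (hstep U hUgood (hB' U hcard hUgood) T0
          (le_inf hT0S ((le_sup_left : T0 ≤ U).trans Subgroup.le_normalizer)) _ hk1U hk1T)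
        have h1 := Subgroup.mem_centralizer_iff.1 hc _ ((Subgroup.mem_normalizer_iff.1 hk₀ a).1 ha)
        calc c * k₀ * a * (c * k₀)⁻¹ = c * (k₀ * a * k₀⁻¹) * c⁻¹ := by group
          _ = k₀ * a * k₀⁻¹ * c * c⁻¹ := by rw [← h1]
          _ = k₀ * a * k₀⁻¹ := mul_inv_cancel_right _ _
      have h1 : Φ T (k₀ * h) := hcomp T h k₀ hΦh (hT0 ▸ hΦk)
      have e : cj (k₀ * h) T = cj h' (cj g T) := by
        rw [hT0', ← cj_cj, ← hT0, cj_eq_iff.2 hk₀]
      have h2 := hcomp T (k₀ * h) h'⁻¹ h1 (e ▸ hinv _ _ hg ((Subgroup.map_mono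
        (le_inf hg Subgroup.le_normalizer)).trans hh') hΦh')
      rwa [hh'def, show (k₀ * (h * g⁻¹))⁻¹ * (k₀ * h) = g by group] at h2
    refine ⟨hA, fun U hnU hU => ?_⟩
    obtain ⟨h, hh, hfn⟩ := exists_conj_into_fn S
      (S.isPGroup'.to_inf_left (K := Subgroup.normalizer (U : Set G))) inf_le_right
    refine htrans U h hU hh (hA _ _ hnU inf_le_left hh) (hmain _ (hU.map hh) hfn fun U' hU' hlt => hB' U' ?_ hU')
    have h1 : Nat.card ((S : Subgroup G) ⊓ Subgroup.normalizer (U : Set G) : Subgroup G) ≤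
        Nat.card ((S : Subgroup G) ⊓ Subgroup.normalizer ((cj h U : Subgroup G) : Set G) : Subgroup G) :=
      card_cj h _ ▸ Subgroup.card_le_of_le (le_inf hh (cj_le_normalizer h inf_le_right))
    omega

end Cfsg.Agent.FunctorControl

namespace Cfsg.Agent.FunctorControl

open AlperinFamily

variable {G : Type*} [Group G] {p : ℕ}

/-- The moves allowed to the pair `W`, `V` at the Sylow subgroup `S`. -/
def pairMoves (W V : Subgroup G → Subgroup G) (S : Subgroup G) : Set G :=
  {z | z ∈ Subgroup.normalizer ((W S : Subgroup G) : Set G) ∨ z ∈ Subgroup.centralizer ((V S : Subgroup G) : Set G)}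

theorem inv_mem_pairMoves {W V : Subgroup G → Subgroup G} {S : Subgroup G} :
    ∀ z ∈ pairMoves W V S, z⁻¹ ∈ pairMoves W V S :=
  fun _ h => h.imp inv_mem inv_mem

/-- The monotone central functor: `C(V R) ≤ C(V S)` for the subgroups `R` in question. -/
theorem centralizer_functor_le [Finite G] [Fact p.Prime] (S : Sylow p G) (hS : (S : Subgroup G) ≠ ⊥)
    {V : Subgroup G → Subgroup G}
    (hVmono : ∀ H K : Subgroup G, IsPGroup p ↥H → IsPGroup p ↥K → H ≠ ⊥ → K ≠ ⊥ →
      H ⊓ Subgroup.centralizer (H : Set G) ≤ K ⊓ Subgroup.centralizer (K : Set G) → V H ≤ V K)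
    {U : Subgroup G} (hU : GoodSub p (S : Subgroup G) U) :
    Subgroup.centralizer ((V ((S : Subgroup G) ⊓ Subgroup.normalizer (U : Set G)) : Subgroup G) : Set G) ≤
      Subgroup.centralizer ((V (S : Subgroup G) : Subgroup G) : Set G) := by
  have hZ : (S : Subgroup G) ⊓ Subgroup.centralizer ((S : Subgroup G) : Set G) ≤
      (S : Subgroup G) ⊓ Subgroup.normalizer (U : Set G) :=
    le_inf inf_le_left (hU.center_le.trans Subgroup.le_normalizer)
  refine Subgroup.centralizer_le (SetLike.coe_subset_coe.2 (hVmono _ _ S.isPGroup' S.isPGroup'.to_inf_left hS ?_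
    (le_inf hZ (inf_le_right.trans (Subgroup.centralizer_le (SetLike.coe_subset_coe.2 inf_le_left))))))
  intro he
  rw [he, le_bot_iff] at hZ
  obtain ⟨x, hx, hx1⟩ : ∃ x, x ∈ (S : Subgroup G) ⊓ Subgroup.centralizer ((S : Subgroup G) : Set G) ∧ x ≠ 1 := by
    haveI : Nontrivial (S : Subgroup G) := (Subgroup.nontrivial_iff_ne_bot _).2 hS
    obtain ⟨x, hx⟩ := (nontrivial_iff_exists_ne (1 : Subgroup.center (S : Subgroup G))).1 S.isPGroup'.center_nontrivial
    refine ⟨((x : (S : Subgroup G)) : G), ⟨(x : (S : Subgroup G)).2, Subgroup.mem_centralizer_iff.2 fun y hy => ?_⟩, ?_⟩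
    · exact congrArg Subtype.val (Subgroup.mem_center_iff.1 x.2 ⟨y, hy⟩)
    · exact fun h => hx (Subtype.ext (Subtype.ext h))
  exact hx1 (by rw [hZ] at hx; exact hx)

/-- A move at `N_S(U)` inside `N(W (N_S U))` is a move at a larger normalizer. -/
theorem goodSub_functor [Finite G] [Fact p.Prime] (S : Sylow p G) {W : Subgroup G → Subgroup G}
    (hW : Cfsg.IsConjugacyFunctor p W)
    (hWZ : ∀ H : Subgroup G, IsPGroup p ↥H → H ⊓ Subgroup.centralizer (H : Set G) ≤ W H)
    {U : Subgroup G} (hU : GoodSub p (S : Subgroup G) U)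
    (hne : (S : Subgroup G) ⊓ Subgroup.normalizer (U : Set G) ≠ (S : Subgroup G)) :
    GoodSub p (S : Subgroup G) (W ((S : Subgroup G) ⊓ Subgroup.normalizer (U : Set G))) ∧
      (S : Subgroup G) ⊓ Subgroup.normalizer (U : Set G) <
        (S : Subgroup G) ⊓ Subgroup.normalizer
          ((W ((S : Subgroup G) ⊓ Subgroup.normalizer (U : Set G)) : Subgroup G) : Set G) := by
  have hp : IsPGroup p ((S : Subgroup G) ⊓ Subgroup.normalizer (U : Set G) : Subgroup G) := S.isPGroup'.to_inf_left
  refine ⟨⟨(hW _ hp).1.trans inf_le_left, _, le_inf inf_le_left (le_normalizer_functor hW hp),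
    cen_inf_normalizer hU, hWZ _ hp⟩, ?_⟩
  exact (exists_lt_inf_normalizer S.isPGroup' inf_le_left hne).trans_le
    (inf_le_inf_left _ (normalizer_le_normalizer_functor hW hp))

end Cfsg.Agent.FunctorControl
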